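import Cfsg.Agent.Lib.Blocks.RankTwoFree.Setup
import Cfsg.Agent.Lib.Blocks.Star.Fixed

/-!
# The contributions of a block with free inertial quotient of order three
-/

namespace CfsgLib.Blocks.RankTwoFree

open Cfsg CfsgLib.CharTheory
open scoped ComplexConjugate

set_option linter.unusedVariables false
set_option linter.unusedSimpArgs false
set_option linter.style.haveILetI false
set_option linter.unusedSectionVars false

universe u

variable {M : Ideal AlgInt} {G : Type u} [Group G] [Fintype G] {B : Set (IrrCharacter G)}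
  {P : Subgroup G} {c : Set (IrrCharacter (Subgroup.centralizer (P : Set G)))} {σ : MulAut P}

/-- The value of a character on the subsection of an element of `P`. -/
noncomputable def aa (M : Ideal AlgInt) (P : Subgroup G)
    (c : Set (IrrCharacter (Subgroup.centralizer (P : Set G)))) (χ : IrrCharacter G) (v : P) : ℂ :=
  dsec 2 M P c (v : G) (χ : G → ℂ)

namespace RT

variable (h : RT M B P c σ)
include h

theorem bEl_eq {v : G} (hv : v ∈ P) :
    bEl 2 M P c v = belowIdx 2 M P c (Subgroup.zpowers v) := by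
  obtain ⟨h1, h2, -⟩ := bEl_spec h.mod h.max hv
  unfold Carries at h2
  rw [conjIdx_one] at h2
  rw [h.ab.below_eq (mem_pairsAt.1 h1).2 h2, (mem_pairsAt.1 h1).1]

theorem rank_bEl {v : G} (hv : v ∈ P) (hv1 : v ≠ 1) :
    blockRank 2 (bEl 2 M P c v).2 = 1 := by
  rw [h.bEl_eq hv]
  exact h.ab.rankOne v hv hv1

theorem defect_bEl {v : G} (hv : v ∈ P) :
    blockDefect 2 (bEl 2 M P c v).2 = blockDefect 2 B :=
  blockDefect_bEl_central h.mod h.max hv fun y hy => h.comm y hy v hv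

theorem fPair_eq {v : G} (hv : v ∈ P) (hv1 : v ≠ 1) (χ ψ : IrrCharacter G) :
    fPair 2 (bEl 2 M P c v) v (χ : G → ℂ) (ψ : G → ℂ) =
      dsec 2 M P c v (χ : G → ℂ) * conj (dsec 2 M P c v (ψ : G → ℂ)) := by
  haveI := Fintype.ofFinite (Subgroup.centralizer ((Subgroup.zpowers v : Subgroup G) : Set G))
  rw [h.bEl_eq hv, ← h.ab.secPair_eq hv hv1]
  exact pairT_eq (isCentr_zpowers v) (irr_isClassFun χ) (irr_isClassFun ψ) _

theorem stab_inf {v : G} (hv : v ∈ P) (hv1 : v ≠ 1) :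
    pairStab P c ⊓ Subgroup.centralizer ((Subgroup.zpowers v : Subgroup G) : Set G) =
      Subgroup.centralizer (P : Set G) := by
  refine le_antisymm (fun s hs => ?_) fun s hs => ⟨cent_le_pairStab P c hs, ?_⟩
  · exact h.free s hs.1 v hv hv1
      (mul_inv_eq_iff_eq_mul.2 ((isCentr_zpowers v s).1 hs.2).eq)
  · exact (isCentr_zpowers v s).2 (Subgroup.mem_centralizer_iff.1 hs v hv).symm

theorem wt_pairT {v : G} (hv : v ∈ P) (hv1 : v ≠ 1) (χ ψ : IrrCharacter G) :
    wtEl (pairStab P c) v * pairT 2 (bEl 2 M P c v) v (χ : G → ℂ) (ψ : G → ℂ) =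
      (3 * (Nat.card P : ℂ))⁻¹ *
        (dsec 2 M P c v (χ : G → ℂ) * conj (dsec 2 M P c v (ψ : G → ℂ))) := by
  rw [← h.fPair_eq hv hv1, wtEl, h.stab_inf hv hv1, h.index, fPair, h.defect_bEl hv, h.card_pos_ab,
    show (bEl 2 M P c v).1 = Subgroup.zpowers v from rfl]
  have h1 : (Nat.card (Subgroup.centralizer (P : Set G)) : ℂ) ≠ 0 :=
    Nat.cast_ne_zero.2 Nat.card_pos.ne'
  have h2 : (Nat.card (Subgroup.centralizer ((Subgroup.zpowers v : Subgroup G) : Set G)) : ℂ) ≠ 0 :=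
    Nat.cast_ne_zero.2 Nat.card_pos.ne'
  push_cast
  field_simp

/-- A `σ`-invariant function on `P` is stable. -/
theorem stable {f : P → ℂ} (hf : ∀ v, f (σ v) = f v) : IsStableFun 2 M P c (sext P f) := by
  intro g x a h1 ha hg
  have hx : x ∈ P := by
    have := carries_mem h1 ha
    rwa [one_mul, inv_one, mul_one] at this
  have hb : bEl 2 M P c x = a := by
    have := bEl_unique h.mod h.max h1 ha
    rwa [one_mul, inv_one, mul_one, conjIdx_one] at this
  rw [← hb] at hg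
  obtain ⟨t, ht, htx⟩ := ext_abelian h.mod h.max h.comm hx hg
  have htN := ((mem_pairStab t).1 ht).1
  obtain ⟨β, hβ⟩ : ∃ β : MulAut P, β = autHom P (le_refl _) ⟨t, htN⟩ := ⟨_, rfl⟩
  have hβA : β ∈ autInducedBy (pairStab P c) P :=
    mem_autInducedBy_iff.2 ⟨t, ht, htN, fun y => by rw [hβ]; rfl⟩
  have e : t * x * t⁻¹ = ((β ⟨x, hx⟩ : P) : G) := by rw [hβ]; rfl
  have hx' : sext P f x = f ⟨x, hx⟩ := sext_coe P f ⟨x, hx⟩
  rw [htx, e, sext_coe, hx']
  rcases h.cover β hβA with hb' | hb' | hb' <;> rw [hb']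
  · rfl
  · exact hf _
  · rw [MulAut.mul_apply, hf, hf]

theorem aa_inv (χ : IrrCharacter G) (v : P) : aa M P c χ (σ v) = aa M P c χ v := by
  obtain ⟨t, ht, htN, htv⟩ := mem_autInducedBy_iff.1 h.mem
  show dsec 2 M P c ((σ v : P) : G) _ = _
  rw [htv v]
  exact h.ab.dsec_conj ht v.2 χ

theorem aa_real (χ : IrrCharacter G) {v : P} (hv : v ≠ 1) :
    aa M P c χ v⁻¹ = conj (aa M P c χ v) :=
  (h.ab.dsec_conj_inv v.2 (fun h1 => hv (Subtype.ext h1)) χ).symm

theorem pairT_one_pos {χ : IrrCharacter G} (hχ : χ ∈ B) :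
    ∃ r : ℝ, 0 < r ∧ pairT 2 (bEl 2 M P c (1 : G)) 1 (χ : G → ℂ) (χ : G → ℂ) = (r : ℂ) := by
  obtain ⟨χ₀, hχ₀, h0⟩ := exists_height_zero h.mod h.max.1.2.1
  have hne := pairT_ne_of_secPair h.mod h.max P.one_mem hχ₀ hχ h0
    (Or.inr (h.defect_bEl P.one_mem))
  refine ⟨∑ y ∈ regC 2 (1 : G),
    Complex.normSq (pairVal (bEl 2 M P c (1 : G)) (χ : G → ℂ) (1 * y)),
    lt_of_le_of_ne (Finset.sum_nonneg fun y _ => Complex.normSq_nonneg _) fun hz => hne ?_, ?_⟩
  · refine Finset.sum_eq_zero fun y hy => ?_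
    rw [Complex.normSq_eq_zero.1 ((Finset.sum_eq_zero_iff_of_nonneg
      fun y _ => Complex.normSq_nonneg _).1 hz.symm y hy), map_zero, mul_zero]
  · rw [Complex.ofReal_sum]
    exact Finset.sum_congr rfl fun y _ => Complex.mul_conj _

variable [Fintype P]

/-- Pairings of two star functions. -/
theorem inner_gen {χ : IrrCharacter G} (hχ : χ ∈ B) (ψ : IrrCharacter G) {η : G → ℂ}
    (hη : IsStableFun 2 M P c η) {W' : BrauerPairIdx G → G → ℂ} (hW' : PairConjInv M W') :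
    classInner (starFun 2 M (pairW 2 M P c η) (χ : G → ℂ)) (starFun 2 M W' (ψ : G → ℂ)) =
      ∑ v : P, η v * conj (W' (bEl 2 M P c v) v) *
        (wtEl (pairStab P c) v * pairT 2 (bEl 2 M P c v) v (χ : G → ℂ) (ψ : G → ℂ)) := by
  have hcχ := irr_isClassFun χ
  have hcψ := irr_isClassFun ψ
  rw [classInner_starFun h.mod hcχ hcψ, sum_block_pairs h.mod h.max (wtEl (pairStab P c))
    (fun a x h1 ha => sum_witSet_abelian h.mod h.max h.comm h1 ha)
    (fun x a => pairW 2 M P c η a x * conj (W' a x) * pairT 2 a x (χ : G → ℂ) (ψ : G → ℂ))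
    (fun t x a ha => by rw [pairW_conjInv hη t x a ha, hW' t x a ha, pairT_conj hcχ hcψ])
    (fun x a ha hx hp => by
      rw [show pairT 2 a x (χ : G → ℂ) (ψ : G → ℂ) = 0 from Finset.sum_eq_zero fun y hy => by
        rw [pairVal_off h.mod h.max.1.2.1 hχ hx ha hp hy, zero_mul], mul_zero]),
    ← mul_assoc, inv_mul_cancel₀ (Nat.cast_ne_zero.2 Nat.card_pos.ne'), one_mul]
  refine Finset.sum_congr rfl fun v _ => ?_
  rw [pairW_bEl h.mod h.max hη v.2]
  ring

/-- The star of a function vanishing at one against an irreducible character. -/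
theorem inner_irr {χ : IrrCharacter G} (hχ : χ ∈ B) (ψ : IrrCharacter G) {f : P → ℂ}
    (hf : ∀ v, f (σ v) = f v) (h1 : f 1 = 0) :
    classInner (starFun 2 M (pairW 2 M P c (sext P f)) (χ : G → ℂ)) (ψ : G → ℂ) =
      (3 * (Nat.card P : ℂ))⁻¹ * ∑ v : P, f v * (aa M P c χ v * conj (aa M P c ψ v)) := by
  conv_lhs => arg 2; rw [← starFun_one (W := fun _ _ => (1 : ℂ)) h.mod
    (blockOf_isPBlock ψ) (mem_blockOf_self h.mod ψ) (fun _ _ _ _ _ => rfl)]
  rw [h.inner_gen hχ ψ (h.stable hf) (fun _ _ _ _ => rfl), Finset.mul_sum]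
  refine Finset.sum_congr rfl fun v _ => ?_
  rw [map_one, mul_one, sext_coe]
  by_cases hv : v = 1
  · rw [hv, h1, zero_mul, zero_mul, mul_zero]
  · rw [h.wt_pairT v.2 (fun h' => hv (Subtype.ext h'))]
    simp only [aa]
    ring

theorem inner_self {χ : IrrCharacter G} (hχ : χ ∈ B) {f : P → ℂ}
    (hf : ∀ v, f (σ v) = f v) (h1 : f 1 = 0) :
    classInner (starFun 2 M (pairW 2 M P c (sext P f)) (χ : G → ℂ))
        (starFun 2 M (pairW 2 M P c (sext P f)) (χ : G → ℂ)) =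
      (3 * (Nat.card P : ℂ))⁻¹ *
        ∑ v : P, f v * conj (f v) * (aa M P c χ v * conj (aa M P c χ v)) := by
  rw [h.inner_gen hχ χ (h.stable hf) (pairW_conjInv (h.stable hf)), Finset.mul_sum]
  refine Finset.sum_congr rfl fun v _ => ?_
  rw [pairW_bEl h.mod h.max (h.stable hf) v.2, sext_coe]
  by_cases hv : v = 1
  · rw [hv, h1, zero_mul, zero_mul, zero_mul, mul_zero]
  · rw [h.wt_pairT v.2 (fun h' => hv (Subtype.ext h'))]
    simp only [aa]
    ring

theorem bound {χ : IrrCharacter G} (hχ : χ ∈ B) [DecidableEq P] :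
    ∑ v ∈ (Finset.univ : Finset P).erase 1, Complex.normSq (aa M P c χ v) <
      3 * (Nat.card P : ℝ) := by
  obtain ⟨r, hr, hre⟩ := h.pairT_one_pos hχ
  have hs : IsStableFun 2 M P c (fun _ => (1 : ℂ)) := fun _ _ _ _ _ _ => rfl
  have h1 := classInner_irr_self χ.2
  rw [← starFun_one (W := pairW 2 M P c fun _ => (1 : ℂ)) h.mod h.max.1.2.1 hχ
    (fun x a ha _ hp => pairW_eq_of_eqOn h.mod h.max (fun _ _ => rfl) (mem_pairsAt.1 ha).1 hp),
    h.inner_gen hχ χ hs (pairW_conjInv hs), ← Finset.add_sum_erase _ _ (Finset.mem_univ (1 : P))]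
    at h1
  rw [Finset.sum_congr rfl fun v hv => show _ = (((3 * (Nat.card P : ℝ))⁻¹ *
      Complex.normSq (aa M P c χ v) : ℝ) : ℂ) by
    rw [pairW_bEl h.mod h.max hs v.2, map_one, one_mul, one_mul,
      h.wt_pairT v.2 (fun h' => (Finset.mem_erase.1 hv).1 (Subtype.ext h')), Complex.ofReal_mul,
      ← Complex.mul_conj]
    simp only [aa]
    push_cast
    rfl, Subgroup.coe_one, pairW_bEl h.mod h.max hs P.one_mem, map_one, one_mul, one_mul, hre]
    at h1
  have hw : ∃ w : ℝ, 0 < w ∧ wtEl (pairStab P c) (1 : G) = (w : ℂ) := by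
    refine ⟨(Nat.card (pairStab P c ⊓ Subgroup.centralizer
        ((Subgroup.zpowers (1 : G) : Subgroup G) : Set G) : Subgroup G) : ℝ) *
      ((Nat.card (pairStab P c) : ℝ) *
        (Nat.card (Subgroup.centralizer ((Subgroup.zpowers (1 : G) : Subgroup G) : Set G)) : ℝ))⁻¹,
      mul_pos (Nat.cast_pos.2 Nat.card_pos)
        (inv_pos.2 (mul_pos (Nat.cast_pos.2 Nat.card_pos) (Nat.cast_pos.2 Nat.card_pos))), ?_⟩
    rw [wtEl]
    push_cast
    rfl
  obtain ⟨w, hw, hwe⟩ := hw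
  rw [hwe, ← Complex.ofReal_sum, ← Complex.ofReal_mul, ← Complex.ofReal_add, ← Complex.ofReal_one,
    Complex.ofReal_inj, ← Finset.mul_sum] at h1
  have hD : (0 : ℝ) < 3 * (Nat.card P : ℝ) := mul_pos three_pos (Nat.cast_pos.2 Nat.card_pos)
  have h2 : (3 * (Nat.card P : ℝ))⁻¹ *
      ∑ v ∈ (Finset.univ : Finset P).erase 1, Complex.normSq (aa M P c χ v) < 1 := by
    have := mul_pos hw hr
    linarith
  rwa [inv_mul_lt_iff₀ hD, mul_one] at h2

end RT

end CfsgLib.Blocks.RankTwoFree
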