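import Cfsg.Prelude.Def_Characters
import Cfsg.Agent.Lib.CharTheory.Linear
import Mathlib.GroupTheory.FiniteAbelian.Duality
import Mathlib.Data.ZMod.Basic

/-!
# Lattice arithmetic for an abelian 2-group with a fixed-point-free automorphism of order three

`a i` are the columns of contributions at the nontrivial elements.  From integrality of the
pairings against invariant generalized characters the number of rows is determined.
-/

namespace CfsgLib.Blocks.RankTwoFree

open Cfsg CfsgLib.CharTheory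
open scoped ComplexConjugate

set_option linter.unusedVariables false
set_option linter.unusedSimpArgs false
set_option linter.unusedSectionVars false
set_option linter.style.haveILetI false

universe u v

variable {D : Type u} [CommGroup D] [Fintype D]

/-! ### characters -/

theorem exists_dual_ne_one {H : Subgroup D} {u : D} (hu : u ∉ H) :
    ∃ μ : D →* ℂˣ, (∀ h ∈ H, μ h = 1) ∧ μ u ≠ 1 := by
  haveI : NeZero (Monoid.exponent (D ⧸ H) : ℂ) :=
    ⟨Nat.cast_ne_zero.2 Monoid.exponent_ne_zero_of_finite⟩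
  obtain ⟨φ, hφ⟩ := CommGroup.exists_apply_ne_one_of_hasEnoughRootsOfUnity (D ⧸ H) ℂ
    (a := (u : D ⧸ H)) (by rwa [Ne, QuotientGroup.eq_one_iff])
  refine ⟨φ.comp (QuotientGroup.mk' H), fun h hh => ?_, hφ⟩
  show φ (h : D ⧸ H) = 1
  rw [(QuotientGroup.eq_one_iff h).2 hh, map_one]

instance finite_dual : Finite (D →* ℂˣ) := by
  haveI : NeZero (Monoid.exponent D : ℂ) :=
    ⟨Nat.cast_ne_zero.2 Monoid.exponent_ne_zero_of_finite⟩
  obtain ⟨e⟩ := CommGroup.monoidHom_mulEquiv_of_hasEnoughRootsOfUnity D ℂ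
  exact Finite.of_equiv D e.symm.toEquiv

noncomputable instance fintype_dual : Fintype (D →* ℂˣ) := Fintype.ofFinite _

theorem card_dual : Fintype.card (D →* ℂˣ) = Fintype.card D := by
  haveI : NeZero (Monoid.exponent D : ℂ) :=
    ⟨Nat.cast_ne_zero.2 Monoid.exponent_ne_zero_of_finite⟩
  obtain ⟨e⟩ := CommGroup.monoidHom_mulEquiv_of_hasEnoughRootsOfUnity D ℂ
  exact Fintype.card_congr e.toEquiv

theorem dual_conj (μ : D →* ℂˣ) (u : D) : conj ((μ u : ℂˣ) : ℂ) = ((μ⁻¹ u : ℂˣ) : ℂ) := by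
  have hf : IsOfFinOrder (μ u) := μ.isOfFinOrder (isOfFinOrder_of_finite _)
  obtain ⟨n, hn, hn'⟩ := isOfFinOrder_iff_pow_eq_one.1 hf
  have h1 : ‖((μ u : ℂˣ) : ℂ)‖ = 1 := Complex.norm_eq_one_of_pow_eq_one
    (by rw [← Units.val_pow_eq_pow_val, hn', Units.val_one]) hn.ne'
  rw [MonoidHom.inv_apply, Units.val_inv_eq_inv_val, Complex.inv_eq_conj h1]

open Classical in
theorem sum_dual (u : D) :
    ∑ μ : D →* ℂˣ, ((μ u : ℂˣ) : ℂ) = if u = 1 then (Fintype.card D : ℂ) else 0 := by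
  split_ifs with hu
  · subst hu
    simp [card_dual]
  · obtain ⟨ν, -, hν⟩ := exists_dual_ne_one (H := (⊥ : Subgroup D))
      (fun h => hu (Subgroup.mem_bot.1 h))
    have hS : ∑ μ : D →* ℂˣ, ((ν u : ℂˣ) : ℂ) * ((μ u : ℂˣ) : ℂ) =
        ∑ μ : D →* ℂˣ, ((μ u : ℂˣ) : ℂ) :=
      Fintype.sum_equiv (Equiv.mulLeft ν) _ _ fun μ => by simp
    rw [← Finset.mul_sum] at hS
    by_contra h
    exact hν (Units.ext ((mul_eq_right₀ h).1 hS))

/-- Parseval for the Fourier transform. -/
theorem sum_dual_normSq (F : D → ℂ) :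
    ∑ μ : D →* ℂˣ, (∑ u, ((μ u : ℂˣ) : ℂ) * F u) * conj (∑ v, ((μ v : ℂˣ) : ℂ) * F v) =
      (Fintype.card D : ℂ) * ∑ u, F u * conj (F u) := by
  classical
  simp only [map_sum, map_mul, dual_conj, Finset.sum_mul_sum]
  rw [Finset.sum_comm, Finset.mul_sum]
  refine Finset.sum_congr rfl fun u _ => ?_
  rw [Finset.sum_comm, Finset.sum_eq_single u]
  · rw [Finset.sum_congr rfl fun μ _ => show ((μ u : ℂˣ) : ℂ) * F u *
        (((μ⁻¹ u : ℂˣ) : ℂ) * conj (F u)) = F u * conj (F u) by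
      rw [mul_mul_mul_comm, MonoidHom.inv_apply, ← Units.val_mul, mul_inv_cancel, Units.val_one,
        one_mul], Finset.sum_const, Finset.card_univ, card_dual, nsmul_eq_mul]
  · intro v _ hv
    rw [Finset.sum_congr rfl fun μ _ => show ((μ u : ℂˣ) : ℂ) * F u *
        (((μ⁻¹ v : ℂˣ) : ℂ) * conj (F v)) = ((μ (u * v⁻¹) : ℂˣ) : ℂ) * (F u * conj (F v)) by
      rw [map_mul, map_inv, MonoidHom.inv_apply, Units.val_mul]; ring, ← Finset.sum_mul,
      sum_dual, if_neg (fun h => hv (eq_of_mul_inv_eq_one h).symm), zero_mul]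
  · exact fun h => absurd (Finset.mem_univ u) h

theorem twelve_aux (a b c : ℤ) (ha : a * a ≤ 11) (hb : b * b ≤ 11) (hc : c * c ≤ 11)
    (h1 : 4 ∣ b - a) (h2 : 4 ∣ c - a) (h3 : 4 ∣ -(a + b + c) - a)
    (hlt : a * a + b * b + c * c + (a + b + c) * (a + b + c) < 12) : a = 0 ∧ b = 0 ∧ c = 0 := by
  have key : ∀ x : ℤ, x * x ≤ 11 → x ∈ Finset.Icc (-3 : ℤ) 3 := fun x hx =>
    Finset.mem_Icc.2 ⟨by nlinarith, by nlinarith⟩
  have dec : ∀ a ∈ Finset.Icc (-3 : ℤ) 3, ∀ b ∈ Finset.Icc (-3 : ℤ) 3, ∀ c ∈ Finset.Icc (-3 : ℤ) 3,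
      4 ∣ b - a → 4 ∣ c - a → 4 ∣ -(a + b + c) - a →
      a * a + b * b + c * c + (a + b + c) * (a + b + c) < 12 → a = 0 ∧ b = 0 ∧ c = 0 := by decide
  exact dec a (key a ha) b (key b hb) c (key c hc) h1 h2 h3 hlt

/-- Four integers with sum zero, congruent modulo four and not all zero. -/
theorem twelve_le (y : Fin 4 → ℤ) (hsum : ∑ i, y i = 0) (hmod : ∀ i, 4 ∣ y i - y 0)
    (hne : ∃ i, y i ≠ 0) : 12 ≤ ∑ i, y i ^ 2 := by
  simp only [Fin.sum_univ_four] at hsum ⊢
  by_contra hlt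
  push Not at hlt
  have e3 : y 3 = -(y 0 + y 1 + y 2) := by omega
  rw [e3] at hlt
  have h3 := hmod 3
  rw [e3] at h3
  obtain ⟨h0, h1, h2⟩ := twelve_aux (y 0) (y 1) (y 2) (by nlinarith) (by nlinarith) (by nlinarith)
    (hmod 1) (hmod 2) h3 (by nlinarith)
  obtain ⟨i, hi⟩ := hne
  fin_cases i <;> simp_all

/-! ### the action -/

/-- The squares have index four and `σ` has order three without fixed points. -/
structure Act (σ : D ≃* D) : Prop where
  cube : ∀ u, σ (σ (σ u)) = u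
  fpf : ∀ u, σ u = u → u = 1
  four : 4 * Nat.card {u : D // IsSquare u} = Fintype.card D

open Classical in
/-- Four times the indicator of the nonsquares. -/
noncomputable def top4 (u : D) : ℂ := if IsSquare u then 0 else 4

/-- The orbit sum of a character. -/
noncomputable def orb (σ : D ≃* D) (μ : D →* ℂˣ) (u : D) : ℂ :=
  ((μ u : ℂˣ) : ℂ) + ((μ (σ u) : ℂˣ) : ℂ) + ((μ (σ (σ u)) : ℂˣ) : ℂ)

open Classical in
/-- The characters trivial on the squares. -/
noncomputable def K4 (D : Type u) [CommGroup D] [Fintype D] : Finset (D →* ℂˣ) :=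
  Finset.univ.filter fun μ => μ * μ = 1

theorem mem_K4 {μ : D →* ℂˣ} : μ ∈ K4 D ↔ μ * μ = 1 := by
  classical
  simp [K4]

theorem one_mem_K4 : (1 : D →* ℂˣ) ∈ K4 D := mem_K4.2 (MonoidHom.ext fun x => one_mul 1)

theorem K4_mul {μ ν : D →* ℂˣ} (h : μ ∈ K4 D) (h' : ν ∈ K4 D) : μ * ν ∈ K4 D := by
  rw [mem_K4] at *
  refine MonoidHom.ext fun x => ?_
  have e1 := DFunLike.congr_fun h x
  have e2 := DFunLike.congr_fun h' x
  simp only [MonoidHom.mul_apply, MonoidHom.one_apply] at e1 e2 ⊢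
  rw [mul_mul_mul_comm, e1, e2, one_mul]

theorem K4_inv {μ : D →* ℂˣ} (h : μ ∈ K4 D) : μ⁻¹ ∈ K4 D := by
  rw [mem_K4] at *
  refine MonoidHom.ext fun x => ?_
  have e1 := DFunLike.congr_fun h x
  simp only [MonoidHom.mul_apply, MonoidHom.one_apply, MonoidHom.inv_apply] at e1 ⊢
  rw [← mul_inv, e1, inv_one]

theorem K4_sq {ν : D →* ℂˣ} (h : ν ∈ K4 D) {u : D} (hu : IsSquare u) : ν u = 1 := by
  obtain ⟨r, rfl⟩ := hu
  rw [map_mul]
  exact DFunLike.congr_fun (mem_K4.1 h) r

theorem top4_map (σ : D ≃* D) (u : D) : top4 (σ u) = top4 u := by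
  classical
  have h : IsSquare (σ u) ↔ IsSquare u := ⟨fun h => by simpa using h.map σ.symm, fun h => h.map σ⟩
  simp [top4, h]

namespace Act

variable {σ : D ≃* D} (hσ : Act σ)
include hσ

open Classical in
theorem card_squares_pos : 0 < (Finset.univ.filter fun u : D => IsSquare u).card :=
  Finset.card_pos.2 ⟨1, Finset.mem_filter.2 ⟨Finset.mem_univ _, IsSquare.one⟩⟩

open Classical in
theorem card_squares :
    4 * (Finset.univ.filter fun u : D => IsSquare u).card = Fintype.card D := by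
  have h := hσ.four
  rwa [Nat.card_eq_fintype_card, Fintype.card_subtype] at h

open Classical in
theorem sum_K4_aux {u : D} (hu : ¬ IsSquare u) : ∑ ν ∈ K4 D, ((ν u : ℂˣ) : ℂ) = 0 := by
  set H : Subgroup D := (powMonoidHom 2 : D →* D).range
  have hH : ∀ x, x ∈ H ↔ IsSquare x := fun x => by
    simp [H, isSquare_iff_exists_sq, eq_comm]
  obtain ⟨ν, hν1, hν⟩ := exists_dual_ne_one (H := H) (fun h => hu ((hH u).1 h))
  have hmem : ν ∈ K4 D := mem_K4.2 (MonoidHom.ext fun x => by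
    have := hν1 (x * x) ((hH _).2 ⟨x, rfl⟩)
    rw [map_mul] at this
    exact this)
  have hS : ∑ μ ∈ K4 D, ((ν u : ℂˣ) : ℂ) * ((μ u : ℂˣ) : ℂ) = ∑ μ ∈ K4 D, ((μ u : ℂˣ) : ℂ) :=
    Finset.sum_bij' (fun μ _ => ν * μ) (fun μ _ => ν⁻¹ * μ) (fun μ h => K4_mul hmem h)
      (fun μ h => K4_mul (K4_inv hmem) h) (fun μ _ => inv_mul_cancel_left ν μ)
      (fun μ _ => mul_inv_cancel_left ν μ) fun μ _ => by simp
  rw [← Finset.mul_sum] at hS
  by_contra h
  exact hν (Units.ext ((mul_eq_right₀ h).1 hS))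

theorem card_K4 : (K4 D).card = 4 := by
  classical
  have h1 : ∑ ν ∈ K4 D, ∑ u : D, ((ν u : ℂˣ) : ℂ) = (Fintype.card D : ℂ) := by
    rw [Finset.sum_eq_single 1]
    · simp
    · intro ν hν hne
      obtain ⟨v, hv⟩ : ∃ v, ν v ≠ 1 := by
        by_contra hc
        push Not at hc
        exact hne (MonoidHom.ext hc)
      have hS : ∑ u : D, ((ν v : ℂˣ) : ℂ) * ((ν u : ℂˣ) : ℂ) = ∑ u : D, ((ν u : ℂˣ) : ℂ) :=
        Fintype.sum_equiv (Equiv.mulLeft v) _ _ fun u => by simp
      rw [← Finset.mul_sum] at hS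
      by_contra h
      exact hv (Units.ext ((mul_eq_right₀ h).1 hS))
    · exact fun h => absurd one_mem_K4 h
  rw [Finset.sum_comm, Finset.sum_congr rfl fun u _ => show ∑ ν ∈ K4 D, ((ν u : ℂˣ) : ℂ) =
      if IsSquare u then ((K4 D).card : ℂ) else 0 by
    split_ifs with hu
    · rw [Finset.sum_congr rfl fun ν hν => by rw [K4_sq hν hu, Units.val_one]]
      simp
    · exact hσ.sum_K4_aux hu, ← Finset.sum_filter, Finset.sum_const, nsmul_eq_mul] at h1
  have h2 : (Finset.univ.filter fun u : D => IsSquare u).card * (K4 D).card =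
      (Finset.univ.filter fun u : D => IsSquare u).card * 4 := by
    rw [mul_comm _ 4, hσ.card_squares]
    exact_mod_cast h1
  exact Nat.eq_of_mul_eq_mul_left hσ.card_squares_pos h2

theorem sum_K4 (u : D) : ∑ ν ∈ K4 D, ((ν u : ℂˣ) : ℂ) = 4 - top4 u := by
  classical
  unfold top4
  split_ifs with hu
  · rw [Finset.sum_congr rfl fun ν hν => by rw [K4_sq hν hu, Units.val_one]]
    simp [hσ.card_K4]
  · rw [hσ.sum_K4_aux hu, sub_self]

theorem orb_map (μ : D →* ℂˣ) (u : D) : orb σ μ (σ u) = orb σ μ u := by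
  unfold orb
  rw [hσ.cube u]
  ring

/-- A character fixed up to a character of exponent two has exponent two. -/
theorem mem_K4_of_fixed {μ : D →* ℂˣ} (h : μ⁻¹ * μ.comp σ.toMonoidHom ∈ K4 D) : μ ∈ K4 D := by
  have hsurj : Function.Surjective fun x : D => x⁻¹ * σ x := by
    refine Finite.injective_iff_surjective.1 fun x y hxy => ?_
    change x⁻¹ * σ x = y⁻¹ * σ y at hxy
    have h1 : σ (x * y⁻¹) = x * y⁻¹ := by
      rw [map_mul, map_inv, mul_inv_eq_iff_eq_mul]
      calc σ x = x * (x⁻¹ * σ x) := (mul_inv_cancel_left _ _).symm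
        _ = x * (y⁻¹ * σ y) := by rw [hxy]
        _ = x * y⁻¹ * σ y := (mul_assoc _ _ _).symm
    exact eq_of_mul_inv_eq_one (hσ.fpf _ h1)
  refine mem_K4.2 (MonoidHom.ext fun z => ?_)
  obtain ⟨x, rfl⟩ := hsurj z
  have h2 := DFunLike.congr_fun (mem_K4.1 h) x
  simp only [MonoidHom.mul_apply, MonoidHom.inv_apply, MonoidHom.comp_apply,
    MonoidHom.one_apply, MulEquiv.coe_toMonoidHom] at h2 ⊢
  rw [map_mul, map_inv]
  exact h2

theorem dual_eq_one_of_fixed {μ : D →* ℂˣ} (h : μ.comp σ.toMonoidHom = μ) : μ = 1 := by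
  have hsurj : Function.Surjective fun x : D => x⁻¹ * σ x := by
    refine Finite.injective_iff_surjective.1 fun x y hxy => ?_
    change x⁻¹ * σ x = y⁻¹ * σ y at hxy
    have h1 : σ (x * y⁻¹) = x * y⁻¹ := by
      rw [map_mul, map_inv, mul_inv_eq_iff_eq_mul]
      calc σ x = x * (x⁻¹ * σ x) := (mul_inv_cancel_left _ _).symm
        _ = x * (y⁻¹ * σ y) := by rw [hxy]
        _ = x * y⁻¹ * σ y := (mul_assoc _ _ _).symm
    exact eq_of_mul_inv_eq_one (hσ.fpf _ h1)
  refine MonoidHom.ext fun z => ?_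
  obtain ⟨x, rfl⟩ := hsurj z
  have h2 := DFunLike.congr_fun h x
  simp only [MonoidHom.comp_apply, MulEquiv.coe_toMonoidHom] at h2
  simp [map_mul, h2]

theorem comp_cube (μ : D →* ℂˣ) :
    ((μ.comp σ.toMonoidHom).comp σ.toMonoidHom).comp σ.toMonoidHom = μ :=
  MonoidHom.ext fun u => congrArg μ (hσ.cube u)

end Act

/-! ### pairings -/

variable {ι : Type v}

/-- The pairing of two rows against a weight. -/
noncomputable def co (a : ι → D → ℂ) (η : D → ℂ) (i j : ι) : ℂ :=
  (3 * (Fintype.card D : ℂ))⁻¹ * ∑ u, η u * (a i u * conj (a j u))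

theorem co_add (a : ι → D → ℂ) (η η' : D → ℂ) (i j : ι) :
    co a (η + η') i j = co a η i j + co a η' i j := by
  simp only [co, Pi.add_apply, add_mul, Finset.sum_add_distrib, mul_add]

theorem co_sub (a : ι → D → ℂ) (η η' : D → ℂ) (i j : ι) :
    co a (η - η') i j = co a η i j - co a η' i j := by
  simp only [co, Pi.sub_apply, sub_mul, Finset.sum_sub_distrib, mul_sub]

theorem co_smul (a : ι → D → ℂ) (r : ℂ) (η : D → ℂ) (i j : ι) :
    co a (fun u => r * η u) i j = r * co a η i j := by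
  simp only [co, mul_assoc, ← Finset.mul_sum]
  ring

theorem co_sum {κ : Type*} (s : Finset κ) (a : ι → D → ℂ) (η : κ → D → ℂ) (i j : ι) :
    co a (fun u => ∑ k ∈ s, η k u) i j = ∑ k ∈ s, co a (η k) i j := by
  simp only [co, Finset.sum_mul, Finset.mul_sum]
  exact Finset.sum_comm

theorem co_congr (a : ι → D → ℂ) {η η' : D → ℂ} (h : ∀ u, η u = η' u) (i j : ι) :
    co a η i j = co a η' i j := by rw [funext h]

theorem conj_co_self (a : ι → D → ℂ) (η : D → ℂ) (i : ι) :
    conj (co a η i i) = co a (fun u => conj (η u)) i i := by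
  simp only [co, map_mul, map_inv₀, map_ofNat, map_natCast, map_sum, Complex.conj_conj]
  congr 1
  exact Finset.sum_congr rfl fun u _ => by ring

theorem isGenChar_dual (μ : D →* ℂˣ) : IsGeneralizedCharacter D fun u => ((μ u : ℂˣ) : ℂ) :=
  isGenChar_of_char (isCharacter_of_irr (isIrrCharacter_linear μ))

theorem isGenChar_const (n : ℤ) : IsGeneralizedCharacter D fun _ : D => (n : ℂ) := by
  have h := isGenChar_intSmul n (isGenChar_dual (1 : D →* ℂˣ))
  convert h using 1
  funext u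
  simp

theorem isGenChar_orb (σ : D ≃* D) (μ : D →* ℂˣ) : IsGeneralizedCharacter D (orb σ μ) :=
  isGenChar_add (isGenChar_add (isGenChar_dual μ) (isGenChar_dual (μ.comp σ.toMonoidHom)))
    (isGenChar_dual ((μ.comp σ.toMonoidHom).comp σ.toMonoidHom))

theorem Act.isGenChar_top4 {σ : D ≃* D} (hσ : Act σ) : IsGeneralizedCharacter D (top4 (D := D)) := by
  have h : (top4 (D := D)) = (fun _ : D => ((4 : ℤ) : ℂ)) -
      fun u => ∑ ν ∈ K4 D, ((ν u : ℂˣ) : ℂ) := by
    funext u
    rw [Pi.sub_apply, hσ.sum_K4]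
    push_cast
    ring
  rw [h]
  refine isGenChar_sub (isGenChar_const 4) ?_
  have := isGenChar_sum (K4 D) (fun ν : D →* ℂˣ => fun u : D => ((ν u : ℂˣ) : ℂ))
    fun ν _ => isGenChar_dual ν
  convert this using 1
  funext u
  simp [Finset.sum_apply]

theorem top4_one : top4 (1 : D) = 0 := if_pos IsSquare.one

theorem conj_top4 (u : D) : conj (top4 u) = top4 u := by
  unfold top4
  split_ifs <;> first | exact map_zero _ | exact map_ofNat _ 4

open Classical in
/-- The hypotheses on the rows. -/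
structure Sys [Fintype ι] (σ : D ≃* D) (a : ι → D → ℂ) : Prop where
  act : Act σ
  inv : ∀ i u, a i (σ u) = a i u
  real : ∀ i u, u ≠ 1 → a i u⁻¹ = conj (a i u)
  ne : ∀ i u, u ≠ 1 → a i u ≠ 0
  col : ∀ u, u ≠ 1 → ∑ i, a i u * conj (a i u) = (Fintype.card D : ℂ)
  bound : ∀ i, ∑ u ∈ Finset.univ.erase 1, Complex.normSq (a i u) < 3 * (Fintype.card D : ℝ)
  int : ∀ η : D → ℂ, IsGeneralizedCharacter D η → (∀ u, η (σ u) = η u) → η 1 = 0 →
    ∀ i j, ∃ z : ℤ, co a η i j = z
  parseval : ∀ η : D → ℂ, IsGeneralizedCharacter D η → (∀ u, η (σ u) = η u) → η 1 = 0 →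
    ∀ i, ∑ j, co a η i j * conj (co a η i j) = co a (fun u => η u * conj (η u)) i i

namespace Sys

variable [Fintype ι] {σ : D ≃* D} {a : ι → D → ℂ} (h : Sys σ a)
include h

theorem card_ne : (Fintype.card D : ℂ) ≠ 0 := Nat.cast_ne_zero.2 Fintype.card_ne_zero

theorem exists_top (i : ι) : ∃ z : ℤ, co a top4 i i = z :=
  h.int _ h.act.isGenChar_top4 (top4_map σ) top4_one i i

open Classical in
theorem co_top_real (i : ι) :
    co a top4 i i = ((4 / (3 * (Fintype.card D : ℝ)) *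
      ∑ u ∈ Finset.univ.filter (fun u : D => ¬ IsSquare u), Complex.normSq (a i u) : ℝ) : ℂ) := by
  rw [co, Finset.sum_filter]
  push_cast
  rw [Finset.mul_sum, Finset.mul_sum]
  refine Finset.sum_congr rfl fun u _ => ?_
  rw [Complex.mul_conj]
  unfold top4
  split_ifs with hu
  · simp [hu]
  · simp [hu]; field_simp

/-- The norm of a row over the nonsquares, scaled. -/
noncomputable def s (i : ι) : ℤ := (h.exists_top i).choose

theorem s_spec (i : ι) : co a top4 i i = (h.s i : ℂ) := (h.exists_top i).choose_spec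

open Classical in
theorem sum_top_eq (i : ι) :
    ∑ u ∈ Finset.univ.filter (fun u : D => ¬ IsSquare u), Complex.normSq (a i u) =
      3 * (Fintype.card D : ℝ) * h.s i / 4 := by
  have h1 := h.co_top_real i
  rw [h.s_spec, ← Complex.ofReal_intCast, Complex.ofReal_inj] at h1
  rw [h1]
  field_simp

open Classical in
theorem top_nonempty : (Finset.univ.filter (fun u : D => ¬ IsSquare u)).Nonempty := by
  by_contra hne
  rw [Finset.not_nonempty_iff_eq_empty, Finset.filter_eq_empty_iff] at hne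
  push Not at hne
  have h1 := h.act.card_squares
  rw [Finset.filter_true_of_mem fun u hu => hne hu, Finset.card_univ] at h1
  have := Fintype.card_pos (α := D)
  omega

theorem s_pos (i : ι) : 1 ≤ h.s i := by
  classical
  have hpos : 0 < ∑ u ∈ Finset.univ.filter (fun u : D => ¬ IsSquare u), Complex.normSq (a i u) :=
    Finset.sum_pos (fun u hu => Complex.normSq_pos.2 (h.ne i u fun h1 =>
      (Finset.mem_filter.1 hu).2 (h1 ▸ IsSquare.one))) h.top_nonempty
  rw [h.sum_top_eq] at hpos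
  have hD : (0 : ℝ) < (Fintype.card D : ℝ) := Nat.cast_pos.2 Fintype.card_pos
  have : (0 : ℝ) < (h.s i : ℝ) := by
    by_contra hc
    push Not at hc
    nlinarith [mul_nonpos_of_nonneg_of_nonpos hD.le hc]
  exact_mod_cast this

theorem s_le (i : ι) : h.s i ≤ 3 := by
  classical
  have hle : ∑ u ∈ Finset.univ.filter (fun u : D => ¬ IsSquare u), Complex.normSq (a i u) ≤
      ∑ u ∈ Finset.univ.erase (1 : D), Complex.normSq (a i u) :=
    Finset.sum_le_sum_of_subset_of_nonneg (fun u hu => Finset.mem_erase.2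
      ⟨fun h1 => (Finset.mem_filter.1 hu).2 (h1 ▸ IsSquare.one), Finset.mem_univ _⟩)
      fun u _ _ => Complex.normSq_nonneg _
  have h2 := hle.trans_lt (h.bound i)
  rw [h.sum_top_eq] at h2
  have hD : (0 : ℝ) < (Fintype.card D : ℝ) := Nat.cast_pos.2 Fintype.card_pos
  have : (h.s i : ℝ) < (4 : ℤ) := by push_cast; nlinarith
  have : h.s i < 4 := by exact_mod_cast this
  omega

theorem sum_s : ∑ i, h.s i = (Fintype.card D : ℤ) := by
  classical
  have hc : ((∑ i, h.s i : ℤ) : ℂ) = ((Fintype.card D : ℤ) : ℂ) := by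
    rw [Int.cast_sum, Finset.sum_congr rfl fun i _ => (h.s_spec i).symm, Int.cast_natCast]
    simp only [co]
    rw [← Finset.mul_sum, Finset.sum_comm, Finset.sum_congr rfl fun u _ =>
      show ∑ i, top4 u * (a i u * conj (a i u)) = top4 u * (Fintype.card D : ℂ) by
        by_cases hu : u = 1
        · simp [hu, top4_one]
        · rw [← Finset.mul_sum, h.col u hu], ← Finset.sum_mul]
    have ht : ∑ u : D, top4 u = 3 * (Fintype.card D : ℂ) := by
      have e := h.act.card_squares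
      have e2 := Finset.card_filter_add_card_filter_not (s := (Finset.univ : Finset D))
        (fun u : D => IsSquare u)
      rw [Finset.card_univ] at e2
      simp only [top4, Finset.sum_ite, Finset.sum_const, nsmul_eq_mul, mul_zero, zero_add]
      have e3 : (Finset.univ.filter fun u : D => ¬ IsSquare u).card * 4 = 3 * Fintype.card D := by
        omega
      exact_mod_cast e3
    rw [ht]
    field_simp [h.card_ne]
  exact_mod_cast hc

theorem co_orb {η : D → ℂ} (hη : ∀ u, η (σ u) = η u) (μ : D →* ℂˣ) (i j : ι) :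
    co a (fun u => η u * orb σ μ u) i j =
      (Fintype.card D : ℂ)⁻¹ * ∑ u, ((μ u : ℂˣ) : ℂ) * (η u * (a i u * conj (a j u))) := by
  set F : D → ℂ := fun u => η u * (a i u * conj (a j u)) with hF
  have hFσ : ∀ u, F (σ u) = F u := fun u => by simp only [hF, hη, h.inv]
  have e1 : ∑ u, ((μ (σ u) : ℂˣ) : ℂ) * F u = ∑ u, ((μ u : ℂˣ) : ℂ) * F u :=
    Fintype.sum_equiv σ.toEquiv _ _ fun u => by
      show _ = ((μ (σ u) : ℂˣ) : ℂ) * F (σ u)
      rw [hFσ]
  have e2 : ∑ u, ((μ (σ (σ u)) : ℂˣ) : ℂ) * F u = ∑ u, ((μ (σ u) : ℂˣ) : ℂ) * F u :=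
    Fintype.sum_equiv σ.toEquiv _ _ fun u => by
      show _ = ((μ (σ (σ u)) : ℂˣ) : ℂ) * F (σ u)
      rw [hFσ]
  rw [co, Finset.sum_congr rfl fun u _ => show η u * orb σ μ u * (a i u * conj (a j u)) =
    ((μ u : ℂˣ) : ℂ) * F u + ((μ (σ u) : ℂˣ) : ℂ) * F u + ((μ (σ (σ u)) : ℂˣ) : ℂ) * F u by
      simp only [hF, orb]; ring, Finset.sum_add_distrib, Finset.sum_add_distrib, e2, e1, mul_inv]
  ring

open Classical in
/-- With the norms over the nonzero elements odd, every `s` is odd. -/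
theorem s_odd (hodd : ∀ i, ∀ Q : ℤ,
      (∑ u ∈ (Finset.univ : Finset D) \ {1}, a i u * conj (a i u)) = (Q : ℂ) → Odd Q)
    (heven : Even (Fintype.card D)) (i : ι) : Odd (h.s i) := by
  classical
  have hz : ∀ μ : D →* ℂˣ, ∃ z : ℤ, co a (fun u => orb σ μ u - 3) i i = z := fun μ =>
    h.int _ (isGenChar_sub (isGenChar_orb σ μ) (by simpa using isGenChar_const (D := D) 3))
      (fun u => by simp only [Pi.sub_apply, h.act.orb_map]) (by simp [orb]; norm_num) i i
  choose z hz using hz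
  have hinv : ∀ μ : D →* ℂˣ, z μ⁻¹ = z μ := by
    intro μ
    have h1 : ((z μ⁻¹ : ℤ) : ℂ) = (z μ : ℂ) := by
      rw [← hz μ⁻¹, ← map_intCast (starRingEnd ℂ) (z μ), ← hz μ, conj_co_self]
      refine co_congr a (fun u => ?_) i i
      simp only [orb, map_sub, map_add, dual_conj, map_ofNat]
    exact_mod_cast h1
  have hall : ∃ Q : ℤ, (∑ u ∈ (Finset.univ : Finset D) \ {1}, a i u * conj (a i u)) = (Q : ℂ) ∧
      ∑ μ : D →* ℂˣ, (z μ + 3) = 3 * (Fintype.card D : ℤ) - Q := by
    refine ⟨-∑ μ : D →* ℂˣ, z μ, ?_, ?_⟩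
    · rw [Int.cast_neg, Int.cast_sum, Finset.sum_congr rfl fun μ _ => (hz μ).symm, ← co_sum, co]
      have e : ∀ u : D, ∑ μ : D →* ℂˣ, (orb σ μ u - 3) =
          if u = 1 then 0 else -(3 * (Fintype.card D : ℂ)) := by
        intro u
        simp only [orb, Finset.sum_sub_distrib, Finset.sum_add_distrib, sum_dual,
          EmbeddingLike.map_eq_one_iff, Finset.sum_const, Finset.card_univ, card_dual,
          nsmul_eq_mul]
        split_ifs <;> ring
      simp only [e, ite_mul, zero_mul]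
      rw [Finset.sum_ite, Finset.sum_const_zero, zero_add, ← Finset.mul_sum, ← mul_assoc, mul_neg,
        inv_mul_cancel₀ (mul_ne_zero three_ne_zero h.card_ne), neg_mul, one_mul, neg_neg]
      exact Finset.sum_congr (by ext u; simp) fun _ _ => rfl
    · rw [Finset.sum_add_distrib, Finset.sum_const, Finset.card_univ, card_dual, nsmul_eq_mul]
      ring
  obtain ⟨Q, hQ, hsum⟩ := hall
  have hQodd := hodd i Q hQ
  have hK : ∑ μ ∈ K4 D, (z μ + 3) = 12 - 3 * h.s i := by
    have h1 : ((∑ μ ∈ K4 D, z μ : ℤ) : ℂ) = ((-(3 * h.s i) : ℤ) : ℂ) := by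
      rw [Int.cast_sum, Finset.sum_congr rfl fun μ _ => (hz μ).symm, ← co_sum, Int.cast_neg,
        Int.cast_mul, ← h.s_spec, ← neg_mul, Int.cast_ofNat, ← co_smul]
      refine co_congr a (fun u => ?_) i i
      simp only [orb, Finset.sum_sub_distrib, Finset.sum_add_distrib, h.act.sum_K4, top4_map,
        Finset.sum_const, h.act.card_K4, nsmul_eq_mul]
      push_cast
      ring
    have h2 : ∑ μ ∈ K4 D, z μ = -(3 * h.s i) := by exact_mod_cast h1
    rw [Finset.sum_add_distrib, h2, Finset.sum_const, h.act.card_K4]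
    push_cast
    ring
  have hoff : ∑ μ ∈ Finset.univ \ K4 D, ((z μ + 3 : ℤ) : ZMod 2) = 0 := by
    refine Finset.sum_involution (fun μ _ => μ⁻¹) (fun μ _ => ?_) (fun μ hμ _ he => ?_)
      (fun μ hμ => ?_) fun μ _ => inv_inv μ
    · rw [hinv]
      exact CharTwo.add_self_eq_zero _
    · refine (Finset.mem_sdiff.1 hμ).2 (mem_K4.2 ?_)
      nth_rw 1 [← he]
      exact inv_mul_cancel μ
    · refine Finset.mem_sdiff.2 ⟨Finset.mem_univ _, fun hc => (Finset.mem_sdiff.1 hμ).2 ?_⟩
      exact inv_inv μ ▸ K4_inv hc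
  rw [← Int.cast_sum, ZMod.intCast_eq_zero_iff_even] at hoff
  have hsplit := Finset.sum_sdiff (f := fun μ => z μ + 3) (Finset.subset_univ (K4 D))
  rw [hsum, hK] at hsplit
  obtain ⟨r, hr⟩ := hoff
  obtain ⟨q, hq⟩ := hQodd
  obtain ⟨d, hd⟩ := heven
  rw [Int.odd_iff]
  omega

/-- The classification of a row against one with all norms over the nonsquares equal to one. -/
theorem row_cases {i : ι} (hi : ∀ u : D, ¬ IsSquare u → a i u * conj (a i u) = 1) (j : ι) :
    ∃ t : ℤ, co a top4 i j = t ∧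
      (t ^ 2 = h.s j ∨ t ^ 2 + 3 ≤ h.s j) := by
  classical
  obtain ⟨t, ht⟩ := h.int _ h.act.isGenChar_top4 (top4_map σ) top4_one i j
  have hy : ∀ μ : D →* ℂˣ, ∃ y : ℤ, co a (fun u => top4 u * orb σ μ u) i j = y := fun μ =>
    h.int _ (isGenChar_mul h.act.isGenChar_top4 (isGenChar_orb σ μ))
      (fun u => by simp only [Pi.mul_apply, top4_map, h.act.orb_map]) (by simp [top4_one]) i j
  choose y hy using hy
  refine ⟨t, ht, ?_⟩
  set c : (D →* ℂˣ) → (D →* ℂˣ) := fun μ => μ.comp σ.toMonoidHom with hc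
  have hyσ : ∀ μ, y (c μ) = y μ := fun μ => by
    have h1 : ((y (c μ) : ℤ) : ℂ) = (y μ : ℂ) := by
      rw [← hy, ← hy]
      refine co_congr a (fun u => ?_) i j
      rw [← h.act.orb_map μ u]
      rfl
    exact_mod_cast h1
  have hy1 : y 1 = 3 * t := by
    have h1 : ((y 1 : ℤ) : ℂ) = ((3 * t : ℤ) : ℂ) := by
      rw [← hy, Int.cast_mul, ← ht, Int.cast_ofNat, ← co_smul]
      refine co_congr a (fun u => ?_) i j
      simp [orb]
      ring
    exact_mod_cast h1
  have hcoset : ∀ μ, ∑ ν ∈ K4 D, y (μ * ν) = 0 := fun μ => by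
    have h1 : ((∑ ν ∈ K4 D, y (μ * ν) : ℤ) : ℂ) = 0 := by
      rw [Int.cast_sum, Finset.sum_congr rfl fun ν _ => (hy (μ * ν)).symm, ← co_sum,
        co_congr a (η' := fun _ => 0) (fun u => ?_) i j]
      · simp [co]
      · have e : ∀ v : D, top4 v = top4 u → top4 u * ∑ ν ∈ K4 D, ((ν v : ℂˣ) : ℂ) = 0 := by
          intro v hv
          rw [h.act.sum_K4, hv]
          unfold top4
          split_ifs <;> simp
        simp only [orb, MonoidHom.mul_apply, Units.val_mul, mul_add, Finset.sum_add_distrib,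
          ← Finset.mul_sum]
        rw [mul_left_comm (top4 u), e u rfl, mul_left_comm (top4 u), e (σ u) (top4_map σ u),
          mul_left_comm (top4 u), e (σ (σ u)) (by rw [top4_map, top4_map])]
        simp
    exact_mod_cast h1
  have hcong : ∀ μ, ∀ ν ∈ K4 D, (4 : ℤ) ∣ y (μ * ν) - y μ := fun μ ν hν => by
    obtain ⟨w, hw⟩ := h.int _ (isGenChar_sub (isGenChar_orb σ (μ * ν)) (isGenChar_orb σ μ))
      (fun u => by simp only [Pi.sub_apply, h.act.orb_map]) (by simp [orb]) i j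
    refine ⟨w, ?_⟩
    have h1 : ((y (μ * ν) - y μ : ℤ) : ℂ) = ((4 * w : ℤ) : ℂ) := by
      rw [Int.cast_sub, ← hy, ← hy, ← co_sub, Int.cast_mul, ← hw, Int.cast_ofNat, ← co_smul]
      refine co_congr a (fun u => ?_) i j
      simp only [Pi.sub_apply]
      unfold top4
      split_ifs with hu
      · have hu1 : IsSquare (σ u) := hu.map σ
        simp [orb, K4_sq hν hu, K4_sq hν hu1, K4_sq hν (hu1.map σ)]
      · ring
    exact_mod_cast h1
  -- Parseval
  have hpar : ∑ μ, y μ ^ 2 = 12 * h.s j := by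
    have h1 : ((∑ μ, y μ ^ 2 : ℤ) : ℂ) = ((12 * h.s j : ℤ) : ℂ) := by
      push_cast
      rw [← h.s_spec]
      have e : ∀ μ, (y μ : ℂ) ^ 2 = (Fintype.card D : ℂ)⁻¹ * (Fintype.card D : ℂ)⁻¹ *
          ((∑ u, ((μ u : ℂˣ) : ℂ) * (top4 u * (a i u * conj (a j u)))) *
            conj (∑ u, ((μ u : ℂˣ) : ℂ) * (top4 u * (a i u * conj (a j u))))) := fun μ => by
        have e1 := hy μ
        rw [h.co_orb (top4_map σ)] at e1
        have e2 := congrArg (starRingEnd ℂ) e1
        rw [map_mul, map_inv₀, map_natCast, map_intCast] at e2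
        rw [sq]
        conv_lhs => arg 1; rw [← e1]
        conv_lhs => arg 2; rw [← e2]
        ring
      rw [Finset.sum_congr rfl fun μ _ => e μ, ← Finset.mul_sum, sum_dual_normSq, co]
      rw [Finset.sum_congr rfl fun u _ => show top4 u * (a i u * conj (a j u)) *
          conj (top4 u * (a i u * conj (a j u))) = 4 * (top4 u * (a j u * conj (a j u))) by
        simp only [map_mul, conj_top4, Complex.conj_conj]
        unfold top4
        split_ifs with hu
        · simp
        · linear_combination 16 * (a j u * conj (a j u)) * hi u hu, ← Finset.mul_sum]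
      field_simp [h.card_ne]
      ring
    exact_mod_cast h1
  -- the characters of exponent two
  obtain ⟨ν, hν, hν1⟩ : ∃ ν ∈ K4 D, ν ≠ 1 := by
    by_contra hcon
    push Not at hcon
    have h4 := h.act.card_K4
    have : (K4 D).card ≤ ({1} : Finset (D →* ℂˣ)).card :=
      Finset.card_le_card fun x hx => Finset.mem_singleton.2 (hcon x hx)
    simp at this
    omega
  have hcK : ∀ {x}, x ∈ K4 D → c x ∈ K4 D := fun {x} hx => mem_K4.2 (MonoidHom.ext fun u =>
    DFunLike.congr_fun (mem_K4.1 hx) (σ u))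
  have hc3 : ∀ x, c (c (c x)) = x := h.act.comp_cube
  have hcinj : Function.Injective c := fun x x' hx => by
    rw [← hc3 x, ← hc3 x', hx]
  have hc1 : c 1 = 1 := MonoidHom.ext fun _ => rfl
  have hn1 : c ν ≠ 1 := fun hx => hν1 (hcinj (hx.trans hc1.symm))
  have hn2 : c (c ν) ≠ 1 := fun hx => hn1 (hcinj (hx.trans hc1.symm))
  have hd1 : c ν ≠ ν := fun hx => hν1 (h.act.dual_eq_one_of_fixed hx)
  have hd2 : c (c ν) ≠ ν := fun hx => hd1 ((congrArg c hx).symm.trans (hc3 ν))
  have hd3 : c (c ν) ≠ c ν := fun hx => hd1 (hcinj hx)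
  have hKeq : K4 D = {1, ν, c ν, c (c ν)} := by
    symm
    refine Finset.eq_of_subset_of_card_le ?_ ?_
    · intro x hx
      simp only [Finset.mem_insert, Finset.mem_singleton] at hx
      rcases hx with rfl | rfl | rfl | rfl
      exacts [one_mem_K4, hν, hcK hν, hcK (hcK hν)]
    · rw [h.act.card_K4]
      simp [Ne.symm hν1, Ne.symm hn1, Ne.symm hn2, Ne.symm hd1, Ne.symm hd2, Ne.symm hd3]
  have hKy : ∀ f : ℤ → ℤ, ∑ x ∈ K4 D, f (y x) = f (y 1) + 3 * f (y ν) := fun f => by
    rw [hKeq]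
    simp [Ne.symm hν1, Ne.symm hn1, Ne.symm hn2, Ne.symm hd1, Ne.symm hd2, Ne.symm hd3, hyσ]
    ring
  have hyν : y ν = -t := by
    have h1 := hcoset 1
    rw [Finset.sum_congr rfl fun v _ => show y (1 * v) = y v by
      rw [show (1 : D →* ℂˣ) * v = v from MonoidHom.ext fun z => one_mul _]] at h1
    have h2 := hKy fun z => z
    rw [h2, hy1] at h1
    omega
  have hKsq : ∑ x ∈ K4 D, y x ^ 2 = 12 * t ^ 2 := by
    rw [hKy (· ^ 2), hy1, hyν]
    ring
  by_cases hall : ∀ μ, μ ∉ K4 D → y μ = 0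
  · left
    rw [← Finset.sum_sdiff (Finset.subset_univ (K4 D)), hKsq,
      Finset.sum_eq_zero fun μ hμ => by rw [hall μ (Finset.mem_sdiff.1 hμ).2]; norm_num] at hpar
    omega
  · right
    push Not at hall
    obtain ⟨μ, hμK, hμy⟩ := hall
    set rep : Fin 4 → (D →* ℂˣ) := ![1, μ, c μ, c (c μ)] with hrep
    have hco : ∀ x y', c (x * y') = c x * c y' := fun x y' => MonoidHom.ext fun _ => rfl
    have hinvc : ∀ x, c x⁻¹ = (c x)⁻¹ := fun x => MonoidHom.ext fun _ => rfl
    have hnc : ∀ {x}, c x ∈ K4 D → x ∈ K4 D := fun {x} hx => hc3 x ▸ hcK (hcK hx)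
    have hA : μ⁻¹ * c μ ∉ K4 D := fun hx => hμK (h.act.mem_K4_of_fixed hx)
    have hB : (c μ)⁻¹ * c (c μ) ∉ K4 D := fun hx => hA (hnc (by rw [hco, hinvc]; exact hx))
    have hC : μ⁻¹ * c (c μ) ∉ K4 D := fun hx => by
      have h' := K4_inv (hcK hx)
      rw [hco, hinvc, hc3] at h'
      exact hA (show μ⁻¹ * c μ ∈ K4 D by
        have e : ((c μ)⁻¹ * μ)⁻¹ = μ⁻¹ * c μ := MonoidHom.ext fun v => by simp [mul_comm]
        rwa [e] at h')
    have hμ1 : c μ ∉ K4 D := fun hx => hμK (hnc hx)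
    have hμ2 : c (c μ) ∉ K4 D := fun hx => hμ1 (hnc hx)
    have hdist : ∀ k l, (rep k)⁻¹ * rep l ∈ K4 D → k = l := by
      intro k l hkl
      by_contra hne
      have hkl' : (rep l)⁻¹ * rep k ∈ K4 D := by
        have e : ((rep k)⁻¹ * rep l)⁻¹ = (rep l)⁻¹ * rep k :=
          MonoidHom.ext fun v => by simp [mul_comm]
        exact e ▸ K4_inv hkl
      have o1 : ∀ x : D →* ℂˣ, (1 : D →* ℂˣ)⁻¹ * x = x := fun x =>
        MonoidHom.ext fun z => by simp
      have o2 : ∀ x : D →* ℂˣ, x⁻¹ * 1 = x⁻¹ := fun x => MonoidHom.ext fun z => by simp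
      fin_cases k <;> fin_cases l <;> simp [hrep, o1, o2] at hkl hkl' hne <;>
        first
          | exact hμK hkl | exact hμ1 hkl | exact hμ2 hkl
          | exact hμK hkl' | exact hμ1 hkl' | exact hμ2 hkl'
          | exact hA hkl | exact hB hkl | exact hC hkl
          | exact hA hkl' | exact hB hkl' | exact hC hkl'
    have hblock : ∀ x, ∀ μ' ∈ ({x} : Finset (D →* ℂˣ)), y x ≠ 0 →
        12 ≤ ∑ v ∈ K4 D, y (x * v) ^ 2 := by
      intro x _ _ hx
      let e : Fin 4 → (D →* ℂˣ) := ![1, ν, c ν, c (c ν)]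
      have hsum4 : ∀ f : (D →* ℂˣ) → ℤ, ∑ v ∈ K4 D, f v = ∑ k, f (e k) := fun f => by
        rw [hKeq, Fin.sum_univ_four]
        simp [e, Ne.symm hν1, Ne.symm hn1, Ne.symm hn2, Ne.symm hd1, Ne.symm hd2, Ne.symm hd3]
        ring
      rw [hsum4]
      have he0 : x * e 0 = x := MonoidHom.ext fun v => by simp [e]
      refine twelve_le (fun k => y (x * e k)) ?_ (fun k => ?_) ⟨0, by simpa [he0] using hx⟩
      · rw [← hsum4 (fun v => y (x * v))]
        exact hcoset x
      · have hek : e k ∈ K4 D := by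
          fin_cases k
          exacts [one_mem_K4, hν, hcK hν, hcK (hcK hν)]
        simpa [he0] using hcong x (e k) hek
    have hsub : ∑ k : Fin 4, ∑ v ∈ K4 D, y (rep k * v) ^ 2 ≤ ∑ x, y x ^ 2 := by
      rw [← Finset.sum_product']
      rw [← Finset.sum_image (f := fun x => y x ^ 2) (g := fun q : Fin 4 × (D →* ℂˣ) => rep q.1 * q.2)]
      · exact Finset.sum_le_sum_of_subset_of_nonneg (Finset.subset_univ _) fun x _ _ => sq_nonneg _
      · rintro ⟨k, v⟩ hv ⟨l, w⟩ hw hkl
        have hv' := (Finset.mem_product.1 hv).2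
        have hw' := (Finset.mem_product.1 hw).2
        simp only at hkl hv' hw'
        have hkl' : k = l := hdist k l (by
          rw [show (rep k)⁻¹ * rep l = v * w⁻¹ from MonoidHom.ext fun z => by
            have e1 := DFunLike.congr_fun hkl z
            simp only [MonoidHom.mul_apply, MonoidHom.inv_apply] at e1 ⊢
            rw [eq_mul_inv_iff_mul_eq, mul_assoc, ← e1, inv_mul_cancel_left]]
          exact K4_mul hv' (K4_inv hw'))
        subst hkl'
        have : v = w := MonoidHom.ext fun z => by simpa using DFunLike.congr_fun hkl z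
        rw [this]
    rw [hpar, Fin.sum_univ_four] at hsub
    simp only [hrep, Matrix.cons_val_zero, Matrix.cons_val_one, Matrix.cons_val] at hsub
    rw [Finset.sum_congr rfl fun v _ => show y (1 * v) ^ 2 = y v ^ 2 by
      rw [show (1 : D →* ℂˣ) * v = v from MonoidHom.ext fun z => one_mul _], hKsq] at hsub
    have b1 := hblock μ μ (Finset.mem_singleton_self _) hμy
    have b2 := hblock (c μ) _ (Finset.mem_singleton_self _) (by rwa [hyσ])
    have b3 := hblock (c (c μ)) _ (Finset.mem_singleton_self _) (by rwa [hyσ, hyσ])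
    omega

open Classical in
/-- **The count.** -/
theorem count (hodd : ∀ i, ∀ Q : ℤ,
      (∑ u ∈ (Finset.univ : Finset D) \ {1}, a i u * conj (a i u)) = (Q : ℂ) → Odd Q)
    (heven : Even (Fintype.card D)) (h3 : ¬ 3 ∣ Fintype.card D)
    (hone : ∀ i, h.s i = 1 → ∀ u : D, ¬ IsSquare u → a i u * conj (a i u) = 1) :
    3 * Fintype.card ι = Fintype.card D + 8 := by
  classical
  have hs : ∀ i, h.s i = 1 ∨ h.s i = 3 := fun i => by
    have h1 := h.s_pos i
    have h2 := h.s_le i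
    obtain ⟨r, hr⟩ := h.s_odd hodd heven i
    omega
  obtain ⟨i, hi⟩ : ∃ i, h.s i = 1 := by
    by_contra hcon
    push Not at hcon
    have h1 := h.sum_s
    rw [Finset.sum_congr rfl fun i _ => (hs i).resolve_left (hcon i), Finset.sum_const,
      nsmul_eq_mul] at h1
    exact h3 (Int.natCast_dvd_natCast.1 ⟨_, h1.symm.trans (mul_comm _ _)⟩)
  choose t ht htc using fun j => h.row_cases (hone i hi) j
  have hsq : ∑ j, t j ^ 2 = 4 := by
    have h1 : ((∑ j, t j ^ 2 : ℤ) : ℂ) = ((4 : ℤ) : ℂ) := by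
      rw [Int.cast_sum, Finset.sum_congr rfl fun j _ => show ((t j ^ 2 : ℤ) : ℂ) =
          co a top4 i j * conj (co a top4 i j) by
        rw [ht j, map_intCast]; push_cast; ring,
        h.parseval _ h.act.isGenChar_top4 (top4_map σ) top4_one i,
        co_congr a (η' := fun u => 4 * top4 u) (fun u => ?_) i i, co_smul, h.s_spec, hi]
      · norm_num
      · rw [conj_top4]
        unfold top4
        split_ifs <;> simp
    exact_mod_cast h1
  have hkey : ∀ j, h.s j + 2 * t j ^ 2 = 3 := fun j => by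
    rcases hs j with h1 | h1 <;> rcases htc j with h2 | h2 <;> rw [h1] at h2 ⊢
    · omega
    · nlinarith [sq_nonneg (t j)]
    · exfalso
      have : -2 < t j ∧ t j < 2 := by constructor <;> nlinarith
      rcases (by omega : t j = -1 ∨ t j = 0 ∨ t j = 1) with e | e | e <;> rw [e] at h2 <;> norm_num at h2
    · nlinarith [sq_nonneg (t j)]
  have h4 : ∑ j, (h.s j + 2 * t j ^ 2) = (Fintype.card D : ℤ) + 8 := by
    rw [Finset.sum_add_distrib, ← Finset.mul_sum, h.sum_s, hsq]
    rfl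
  rw [Finset.sum_congr rfl fun j _ => hkey j, Finset.sum_const, nsmul_eq_mul, Finset.card_univ] at h4
  have h5 : ((3 * Fintype.card ι : ℕ) : ℤ) = ((Fintype.card D + 8 : ℕ) : ℤ) := by
    push_cast
    linear_combination h4
  exact_mod_cast h5

end Sys

end CfsgLib.Blocks.RankTwoFree
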