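import Cfsg.Agent.Lib.Blocks.RankTwoFree.Contrib
import Cfsg.Agent.Lib.Blocks.CyclicArith

/-!
# Blocks with defect group `C_{2^m} × C_{2^m}`, `m ≥ 1`, and inertial index three
-/

namespace CfsgLib.Blocks.RankTwoFree

open Cfsg CfsgLib.CharTheory
open scoped ComplexConjugate

set_option linter.unusedVariables false
set_option linter.unusedSimpArgs false
set_option linter.style.haveILetI false
set_option linter.unusedSectionVars false

universe u

variable {M : Ideal AlgInt} {G : Type u} [Group G] [Fintype G] {B : Set (IrrCharacter G)}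
  {P : Subgroup G} {c : Set (IrrCharacter (Subgroup.centralizer (P : Set G)))} {σ : MulAut P}

theorem isIntegral_toRootField {N : ℕ} (w : rootField N) (hw : IsIntegral ℤ (w : ℂ)) :
    IsIntegral ℤ w :=
  (isIntegral_algHom_iff (((rootField N).val).restrictScalars ℤ) Subtype.val_injective).1 hw

theorem res_even (hM : IsPModular 2 M) {n : ℤ} (hn : res hM (n : ℂ) ≠ 0) : Odd n := by
  rw [← Int.not_even_iff_odd]
  rintro ⟨k, rfl⟩
  refine hn ?_
  have h2 : (2 : AlgInt ⧸ M) = 0 := by
    have h := Ideal.Quotient.eq_zero_iff_mem.2 hM.2.2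
    rw [map_natCast] at h
    exact_mod_cast h
  rw [res_intCast', ← two_mul, Int.cast_mul, Int.cast_ofNat, h2, zero_mul]

theorem add_self_res (hM : IsPModular 2 M) (r : AlgInt ⧸ M) : r + r = 0 := by
  have h2 : (2 : AlgInt ⧸ M) = 0 := by
    have h := Ideal.Quotient.eq_zero_iff_mem.2 hM.2.2
    rw [map_natCast] at h
    exact_mod_cast h
  rw [← two_mul, h2, zero_mul]

namespace RT

variable (h : RT M B P c σ)
include h

variable [Fintype P]

/-- Galois conjugation of a contribution. -/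
theorem galois_data (χ : IrrCharacter G) {v : P} (hv : v ≠ 1) :
    ∃ w : rootField (Nat.card P), (w : ℂ) = aa M P c χ v * conj (aa M P c χ v) ∧
      IsIntegral ℤ (w : ℂ) ∧ ∀ τ : rootField (Nat.card P) →ₐ[ℚ] ℂ, ∀ j : ℕ,
        j.Coprime (Nat.card P) →
        (∀ y : rootField (Nat.card P), (y : ℂ) ^ Nat.card P = 1 → τ y = (y : ℂ) ^ j) →
        τ w = aa M P c χ (v ^ j) * conj (aa M P c χ (v ^ j)) ∧ v ^ j ≠ 1 := by
  have hN : Nat.card P ≠ 0 := Nat.card_pos.ne'
  obtain ⟨w, hw, hwi, hwσ⟩ := fEl_galois h.mod h.max hN χ v.2 (u := (v : G)) (by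
    rw [← SubmonoidClass.coe_pow, pow_card_eq_one', Subgroup.coe_one])
  have hv' : (v : G) ≠ 1 := fun h' => hv (Subtype.ext h')
  refine ⟨w, ?_, hwi, fun τ j hj hτ => ?_⟩
  · rw [hw, fEl, h.fPair_eq v.2 hv']
    rfl
  · have hne : v ^ j ≠ 1 := fun h' => hv (by
      have e := (powCoprime hj.symm).injective (a₁ := v) (a₂ := (1 : P))
      exact e (by simp [h']))
    refine ⟨?_, hne⟩
    rw [hwσ τ j hj hτ, fEl, show ((v : G) ^ j) = ((v ^ j : P) : G) from rfl,
      h.fPair_eq (v ^ j : P).2 (fun h' => hne (Subtype.ext h'))]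
    rfl

theorem pow_top {v : P} {j : ℕ} (hj : j.Coprime (Nat.card P)) :
    IsSquare (v ^ j) ↔ IsSquare v := by
  refine ⟨fun ⟨r, hr⟩ => ?_, fun ⟨r, hr⟩ => ⟨r ^ j, by
    rw [hr]
    exact (show Commute r r from Commute.refl r).mul_pow j⟩⟩
  obtain ⟨d, hd⟩ := h.even
  have hjodd : Odd j := by
    rw [← Nat.not_even_iff_odd, even_iff_two_dvd]
    intro h2
    have := Nat.eq_one_of_dvd_coprimes hj h2 ⟨d, by omega⟩
    omega
  obtain ⟨k, hk⟩ := hjodd
  refine ⟨r * (v ^ k)⁻¹, ?_⟩
  have hcomm : Commute r (v ^ k)⁻¹ := Subtype.ext (h.comm _ r.2 _ ((v ^ k)⁻¹ : P).2)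
  calc v = v ^ j * (v ^ (k + k))⁻¹ := by rw [hk, two_mul, pow_succ']; group
    _ = r * r * ((v ^ k)⁻¹ * (v ^ k)⁻¹) := by rw [hr, pow_add, mul_inv_rev]
    _ = r * (v ^ k)⁻¹ * (r * (v ^ k)⁻¹) := by
      rw [mul_assoc r (v ^ k)⁻¹, ← mul_assoc (v ^ k)⁻¹ r, ← hcomm.eq]
      simp only [mul_assoc]

open Classical in
/-- Averaging over the conjugates leaves the sum over the nonsquares unchanged. -/
theorem top_average (χ : IrrCharacter G) :
    ∃ w : P → rootField (Nat.card P), (∀ v : P, ¬ IsSquare v →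
      (w v : ℂ) = aa M P c χ v * conj (aa M P c χ v) ∧ IsIntegral ℤ (w v : ℂ) ∧
      ∀ τ : rootField (Nat.card P) →ₐ[ℚ] ℂ, ∃ v' : P, v' ≠ 1 ∧
        τ (w v) = aa M P c χ v' * conj (aa M P c χ v')) ∧
      ∀ [Fintype (rootField (Nat.card P) →ₐ[ℚ] ℂ)],
      ∑ v ∈ Finset.univ.filter (fun v : P => ¬ IsSquare v),
          ∑ τ : rootField (Nat.card P) →ₐ[ℚ] ℂ, (τ (w v)).re =
        (Fintype.card (rootField (Nat.card P) →ₐ[ℚ] ℂ) : ℝ) *
          ∑ v ∈ Finset.univ.filter (fun v : P => ¬ IsSquare v),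
            Complex.normSq (aa M P c χ v) := by
  have hN : Nat.card P ≠ 0 := Nat.card_pos.ne'
  choose j hj hjτ using fun τ : rootField (Nat.card P) →ₐ[ℚ] ℂ => exists_pow_of_galois_hom hN τ
  have hv1 : ∀ v : P, ¬ IsSquare v → v ≠ 1 := fun v hv h' => hv (h' ▸ IsSquare.one)
  set w : P → rootField (Nat.card P) := fun v =>
    if hv : v ≠ 1 then (h.galois_data χ hv).choose else 0 with hw
  have hspec : ∀ v : P, ¬ IsSquare v → _ := fun v hv => by
    have := (h.galois_data χ (hv1 v hv)).choose_spec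
    rw [show (h.galois_data χ (hv1 v hv)).choose = w v by rw [hw]; simp [hv1 v hv]] at this
    exact this
  refine ⟨w, fun v hv => ⟨(hspec v hv).1, (hspec v hv).2.1, fun τ =>
    ⟨v ^ j τ, ((hspec v hv).2.2 τ (j τ) (hj τ) (hjτ τ)).2,
      ((hspec v hv).2.2 τ (j τ) (hj τ) (hjτ τ)).1⟩⟩, ?_⟩
  intro _
  rw [Finset.sum_comm, ← Finset.card_univ, ← nsmul_eq_mul, ← Finset.sum_const]
  refine Finset.sum_congr rfl fun τ _ => ?_
  refine Finset.sum_equiv (powCoprime (hj τ).symm) (fun v => ?_) fun v hv => ?_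
  · simp only [Finset.mem_filter, Finset.mem_univ, true_and]
    exact not_congr (h.pow_top (hj τ)).symm
  · rw [((hspec v (Finset.mem_filter.1 hv).2).2.2 τ (j τ) (hj τ) (hjτ τ)).1, Complex.mul_conj,
      Complex.ofReal_re]
    rfl

open Classical in
theorem card_top : 4 * ((Finset.univ.filter fun v : P => ¬ IsSquare v).card : ℝ) =
    3 * (Nat.card P : ℝ) := by
  have h1 := h.four
  have h2 := Finset.card_filter_add_card_filter_not (s := (Finset.univ : Finset P))
    (fun v : P => IsSquare v)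
  rw [Finset.card_univ] at h2
  rw [Nat.card_eq_fintype_card, Fintype.card_subtype, Nat.card_eq_fintype_card] at h1
  rw [Nat.card_eq_fintype_card]
  have : 4 * (Finset.univ.filter fun v : P => ¬ IsSquare v).card = 3 * Fintype.card P := by omega
  exact_mod_cast this

open Classical in
/-- All characters have height zero, given a bound on the sum over the nonsquares. -/
theorem height_zero {χ : IrrCharacter G} (hχ : χ ∈ B)
    (hs : ∑ v ∈ Finset.univ.filter (fun v : P => ¬ IsSquare v), Complex.normSq (aa M P c χ v) <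
      3 * (Nat.card P : ℝ)) : dv 2 (χ : G → ℂ) = minDv 2 B := by
  by_contra hne
  have hlt : minDv 2 B < dv 2 (χ : G → ℂ) := lt_of_le_of_ne (minDv_le hχ) (Ne.symm hne)
  set N := Nat.card P with hN
  haveI : NeZero N := ⟨Nat.card_pos.ne'⟩
  obtain ⟨χ₀, hχ₀, h0⟩ := exists_height_zero h.mod h.max.1.2.1
  obtain ⟨w, hw, hsum⟩ := h.top_average χ
  have hlow : ∀ v : P, ¬ IsSquare v →
      4 * (Fintype.card (rootField N →ₐ[ℚ] ℂ) : ℝ) ≤ ∑ τ : rootField N →ₐ[ℚ] ℂ, (τ (w v)).re := by
    intro v hv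
    obtain ⟨hwv, hwi, hwτ⟩ := hw v hv
    have hv1 : v ≠ 1 := fun h' => hv (h' ▸ IsSquare.one)
    have hv1' : (v : G) ≠ 1 := fun h' => hv1 (Subtype.ext h')
    obtain ⟨w₀, hw₀, hw₀i, hw₀τ⟩ := h.galois_data χ₀ hv1
    haveI := Fintype.ofFinite
      (Subgroup.centralizer ((Subgroup.zpowers (v : G) : Subgroup G) : Set G))
    have hind := h.ab.induced_below (h.ab.zpowers_le v.2)
    obtain ⟨q, hq, hqi, -⟩ := secPair_div h.mod (isCentr_zpowers (v : G)) (h.ab.ord v.2) hind
      ((h.ab.defect_below (h.ab.zpowers_le v.2)).trans h.ab.defect.symm) hχ₀ hχ h0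
    rw [h.ab.secPair_eq v.2 hv1'] at hq
    obtain ⟨d, hd⟩ := Nat.exists_eq_succ_of_ne_zero (Nat.sub_ne_zero_of_lt hlt)
    rw [hd, pow_succ] at hq
    -- the product with the unit contribution is divisible by four
    have hprod : (w v : ℂ) * (w₀ : ℂ) = 4 * ((2 : ℂ) ^ d * q * ((2 : ℂ) ^ d * conj q)) := by
      have hq' := congrArg (starRingEnd ℂ) hq
      simp only [map_mul, Complex.conj_conj, map_pow, Nat.cast_ofNat, map_ofNat] at hq'
      rw [hwv, hw₀]
      simp only [aa, Nat.cast_ofNat] at hq ⊢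
      calc dsec 2 M P c (v : G) (χ : G → ℂ) * conj (dsec 2 M P c (v : G) (χ : G → ℂ)) *
            (dsec 2 M P c (v : G) (χ₀ : G → ℂ) * conj (dsec 2 M P c (v : G) (χ₀ : G → ℂ)))
          = (dsec 2 M P c (v : G) (χ₀ : G → ℂ) * conj (dsec 2 M P c (v : G) (χ : G → ℂ))) *
            (conj (dsec 2 M P c (v : G) (χ₀ : G → ℂ)) * dsec 2 M P c (v : G) (χ : G → ℂ)) := by
            ring
        _ = _ := by rw [hq, hq']; ring
    haveI : Algebra.IsAlgebraic ℚ (rootField N) := Algebra.IsAlgebraic.of_finite _ _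
    have hnorm := Algebra.norm_eq_prod_embeddings ℚ ℂ w₀
    have hw₀' : IsIntegral ℤ w₀ := isIntegral_toRootField w₀ hw₀i
    obtain ⟨n, hn⟩ := exists_int_of_isIntegral_ratCast (q := Algebra.norm ℚ w₀) (by
      rw [show ((Algebra.norm ℚ w₀ : ℚ) : ℂ) = algebraMap ℚ ℂ (Algebra.norm ℚ w₀) from
        (eq_ratCast (algebraMap ℚ ℂ) _).symm, hnorm]
      exact IsIntegral.prod _ fun τ _ => hw₀'.map (τ.restrictScalars ℤ))
    rw [eq_ratCast, hn, Rat.cast_intCast] at hnorm
    have hunit : ∀ τ : rootField N →ₐ[ℚ] ℂ,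
        MemLocalRing M (τ w₀) ∧ res h.mod (τ w₀) ≠ 0 := by
      intro τ
      obtain ⟨i, hi, hiτ⟩ := exists_pow_of_galois_hom (NeZero.ne N) τ
      obtain ⟨e1, e2⟩ := hw₀τ τ i hi hiτ
      haveI := Fintype.ofFinite
        (Subgroup.centralizer ((Subgroup.zpowers ((v ^ i : P) : G) : Subgroup G) : Set G))
      have := secPair_res_ne h.mod (isCentr_zpowers ((v ^ i : P) : G)) (h.ab.ord (v ^ i : P).2)
        (h.ab.induced_below (h.ab.zpowers_le (v ^ i : P).2)) hχ₀ hχ₀ h0 h0
      rw [h.ab.secPair_eq (v ^ i : P).2 (fun h' => e2 (Subtype.ext h'))] at this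
      rw [e1]
      exact this
    have hnres : res h.mod (n : ℂ) ≠ 0 := by
      haveI := res_isDomain h.mod
      rw [hnorm]
      have : ∀ s : Finset (rootField N →ₐ[ℚ] ℂ), MemLocalRing M (∏ τ ∈ s, τ w₀) ∧
          res h.mod (∏ τ ∈ s, τ w₀) ≠ 0 := by
        intro s
        induction s using Finset.induction_on with
        | empty =>
          rw [Finset.prod_empty]
          exact ⟨by simpa using memRing_natCast h.mod 1, by rw [res_one]; exact one_ne_zero⟩
        | @insert a s ha ih =>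
          rw [Finset.prod_insert ha]
          refine ⟨?_, ?_⟩
          · exact (mul_mem (hunit a).1 ih.1 : (a w₀ * ∏ τ ∈ s, τ w₀) ∈ loc h.mod)
          · rw [res_mul h.mod (hunit a).1 ih.1]
            exact mul_ne_zero (hunit a).2 ih.2
      exact (this Finset.univ).2
    obtain ⟨k, hk⟩ := res_even h.mod hnres
    set rest : ℂ := ∏ τ ∈ Finset.univ.erase ((rootField N).val), τ w₀ with hrest
    have hsplit : (n : ℂ) = (w₀ : ℂ) * rest := by
      rw [hnorm, hrest]
      exact (Finset.mul_prod_erase _ (fun τ : rootField N →ₐ[ℚ] ℂ => τ w₀)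
        (Finset.mem_univ ((rootField N).val))).symm
    have hrest' : IsIntegral ℤ rest := IsIntegral.prod _ fun τ _ => hw₀'.map (τ.restrictScalars ℤ)
    have hint : IsIntegral ℤ ((w v : ℂ) / 4) := by
      have h2i : IsIntegral ℤ ((2 : ℂ) ^ d) := by
        simpa using (isIntegral_algebraMap (R := ℤ) (A := ℂ) (x := (2 : ℤ))).pow d
      have hqc : IsIntegral ℤ (conj q) := hqi.map ((Complex.conjAe.toAlgHom).restrictScalars ℤ)
      have hA : IsIntegral ℤ ((n : ℂ) * ((w v : ℂ) / 4)) := by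
        rw [show (n : ℂ) * ((w v : ℂ) / 4) = (2 : ℂ) ^ d * q * ((2 : ℂ) ^ d * conj q) * rest by
          rw [hsplit]; linear_combination (rest / 4) * hprod]
        exact ((h2i.mul hqi).mul (h2i.mul hqc)).mul hrest'
      -- `n` is odd
      have e : (w v : ℂ) / 4 = (n : ℂ) * ((n : ℂ) * ((w v : ℂ) / 4)) -
          ((k * k + k : ℤ) : ℂ) * (w v : ℂ) := by
        rw [hk]; push_cast; ring
      rw [e]
      exact ((isIntegral_intCast' n).mul hA).sub ((isIntegral_intCast' _).mul hwi)
    set w4 : rootField N := w v / 4 with hw4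
    have hpos : ∀ τ : rootField N →ₐ[ℚ] ℂ, ∃ r : ℝ, 0 < r ∧ τ w4 = (r : ℂ) := by
      intro τ
      obtain ⟨v', hv', e⟩ := hwτ τ
      refine ⟨Complex.normSq (aa M P c χ v') / 4, div_pos (Complex.normSq_pos.2
        (h.ab.dsec_ne_zero v'.2 (fun h' => hv' (Subtype.ext h')) hχ)) four_pos, ?_⟩
      rw [hw4, map_div₀, e, map_ofNat, Complex.mul_conj]
      push_cast
      rfl
    have h4 := card_le_sum_pos w4 (by
      rw [show (w4 : ℂ) = (w v : ℂ) / 4 by
        show (rootField N).val w4 = _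
        rw [hw4, map_div₀, map_ofNat]
        rfl]
      exact hint) hpos
    have e4 : ∀ τ : rootField N →ₐ[ℚ] ℂ, (τ w4).re = (τ (w v)).re / 4 := fun τ => by
      rw [hw4, map_div₀, map_ofNat]
      simp
    rw [Finset.sum_congr rfl fun τ _ => e4 τ, ← Finset.sum_div, le_div_iff₀ (by norm_num)] at h4
    linarith
  have htot := Finset.sum_le_sum fun v (hv : v ∈ Finset.univ.filter fun v : P => ¬ IsSquare v) =>
    hlow v (Finset.mem_filter.1 hv).2
  rw [hsum, Finset.sum_const, nsmul_eq_mul] at htot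
  have hc := h.card_top
  have hpos : (0 : ℝ) < Fintype.card (rootField N →ₐ[ℚ] ℂ) :=
    Nat.cast_pos.2 (Fintype.card_pos_iff.2 ⟨(rootField N).val⟩)
  nlinarith

open Classical in
/-- The least possible sum forces all contributions to be one. -/
theorem one_of_least {χ : IrrCharacter G} (hχ : χ ∈ B)
    (hs : 4 * ∑ v ∈ Finset.univ.filter (fun v : P => ¬ IsSquare v),
      Complex.normSq (aa M P c χ v) = 3 * (Nat.card P : ℝ)) {v : P} (hv : ¬ IsSquare v) :
    aa M P c χ v * conj (aa M P c χ v) = 1 := by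
  set N := Nat.card P with hN
  haveI : NeZero N := ⟨Nat.card_pos.ne'⟩
  obtain ⟨w, hw, hsum⟩ := h.top_average χ
  have hpos : ∀ v : P, ¬ IsSquare v → ∀ τ : rootField N →ₐ[ℚ] ℂ,
      ∃ r : ℝ, 0 < r ∧ τ (w v) = (r : ℂ) := by
    intro v hv τ
    obtain ⟨v', hv', e⟩ := (hw v hv).2.2 τ
    exact ⟨Complex.normSq (aa M P c χ v'), Complex.normSq_pos.2
      (h.ab.dsec_ne_zero v'.2 (fun h' => hv' (Subtype.ext h')) hχ), by rw [e, Complex.mul_conj]⟩
  have htop : ∑ v ∈ Finset.univ.filter (fun v : P => ¬ IsSquare v),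
      Complex.normSq (aa M P c χ v) =
      ((Finset.univ.filter fun v : P => ¬ IsSquare v).card : ℝ) := by
    linarith [h.card_top]
  have heq := (Finset.sum_eq_sum_iff_of_le
    (f := fun _ : P => (Fintype.card (rootField N →ₐ[ℚ] ℂ) : ℝ))
    (g := fun v => ∑ τ : rootField N →ₐ[ℚ] ℂ, (τ (w v)).re) fun v hv =>
      card_le_sum_pos (w v) (hw v (Finset.mem_filter.1 hv).2).2.1
        (hpos v (Finset.mem_filter.1 hv).2)).1 (by
      rw [hsum, htop, Finset.sum_const, nsmul_eq_mul, mul_comm]) v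
    (Finset.mem_filter.2 ⟨Finset.mem_univ v, hv⟩)
  rw [← (hw v hv).1]
  exact eq_one_of_sum_pos (w v) (hw v hv).2.1 (hpos v hv) heq.ge ((rootField N).val)

open Classical in
/-- The sum of the squares away from the identity is odd. -/
theorem odd_sum {χ : IrrCharacter G} (hχ : χ ∈ B) (h0 : dv 2 (χ : G → ℂ) = minDv 2 B) {Q : ℤ}
    (hQ : ∑ v ∈ (Finset.univ : Finset P) \ {1}, aa M P c χ v * conj (aa M P c χ v) = (Q : ℂ)) :
    Odd Q := by
  haveI := res_isDomain h.mod
  have hu : ∀ v : P, v ≠ 1 → MemLocalRing M (aa M P c χ v * conj (aa M P c χ v)) ∧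
      res h.mod (aa M P c χ v * conj (aa M P c χ v)) ≠ 0 := by
    intro v hv
    haveI := Fintype.ofFinite
      (Subgroup.centralizer ((Subgroup.zpowers (v : G) : Subgroup G) : Set G))
    have := secPair_res_ne h.mod (isCentr_zpowers (v : G)) (h.ab.ord v.2)
      (h.ab.induced_below (h.ab.zpowers_le v.2)) hχ hχ h0 h0
    rwa [h.ab.secPair_eq v.2 (fun h' => hv (Subtype.ext h'))] at this
  refine res_even h.mod ?_
  rw [← hQ, res_sum h.mod fun v hv => (hu v (by simpa using hv)).1]
  set f : P → AlgInt ⧸ M := fun v => res h.mod (aa M P c χ v * conj (aa M P c χ v)) with hf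
  set S := (Finset.univ : Finset P) \ {1} with hS
  show ∑ v ∈ S, f v ≠ 0
  rw [← Finset.sum_filter_add_sum_filter_not S (fun v => v * v = 1)]
  have hrest : ∑ v ∈ S.filter (fun v => ¬ v * v = 1), f v = 0 := by
    refine Finset.sum_involution (fun v _ => v⁻¹) (fun v hv => ?_) (fun v hv _ he => ?_)
      (fun v hv => ?_) fun v _ => inv_inv v
    · have hv1 : v ≠ 1 := by simpa [hS] using (Finset.mem_filter.1 hv).1
      have e : f v⁻¹ = f v := by
        simp only [hf]
        rw [h.aa_real χ hv1, Complex.conj_conj, mul_comm]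
      rw [e]
      exact add_self_res h.mod _
    · exact (Finset.mem_filter.1 hv).2 (by nth_rw 1 [← he]; exact inv_mul_cancel v)
    · obtain ⟨hv1, hv2⟩ := Finset.mem_filter.1 hv
      refine Finset.mem_filter.2 ⟨by simpa [hS] using hv1, fun h' => hv2 ?_⟩
      rw [← mul_inv_rev, inv_eq_one] at h'
      exact h'
  rw [hrest, add_zero]
  -- the three involutions
  have hcard : (S.filter fun v => v * v = 1).card = 3 := by
    have h4 := h.invol
    rw [Nat.card_eq_fintype_card, Fintype.card_subtype] at h4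
    rw [show S.filter (fun v => v * v = 1) =
      (Finset.univ.filter fun v : P => v * v = 1).erase 1 by
        ext v; simp [hS, and_comm], Finset.card_erase_of_mem (by simp), h4]
  obtain ⟨z, hz⟩ : (S.filter fun v => v * v = 1).Nonempty := Finset.card_pos.1 (by omega)
  obtain ⟨hzS, hz2⟩ := Finset.mem_filter.1 hz
  have hz1 : z ≠ 1 := by simpa [hS] using hzS
  have hconst : ∀ v ∈ S.filter (fun v => v * v = 1), f v = f z := by
    have hσf : ∀ v, f (σ v) = f v := fun v => by simp only [hf, h.aa_inv]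
    have hmem : ∀ x ∈ ({z, σ z, σ (σ z)} : Finset P), x ∈ S.filter fun v => v * v = 1 := by
      intro x hx
      simp only [Finset.mem_insert, Finset.mem_singleton] at hx
      rcases hx with rfl | rfl | rfl
      · exact hz
      · simp [hS, ← map_mul, hz2, hz1]
      · simp [hS, ← map_mul, hz2, hz1]
    have hn1 : σ z ≠ z := fun h' => hz1 (h.fpf z h')
    have hn2 : σ (σ z) ≠ σ z := fun h' => hn1 (σ.injective h')
    have hn3 : σ (σ z) ≠ z := fun h' => hn1 (by
      have := congrArg σ h'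
      rw [h.cube z] at this
      exact this.symm)
    have heq : ({z, σ z, σ (σ z)} : Finset P) = S.filter fun v => v * v = 1 :=
      Finset.eq_of_subset_of_card_le hmem (by
        rw [hcard]; simp [Ne.symm hn1, Ne.symm hn2, Ne.symm hn3])
    intro v hv
    rw [← heq] at hv
    simp only [Finset.mem_insert, Finset.mem_singleton] at hv
    rcases hv with rfl | rfl | rfl <;> simp [hσf]
  rw [Finset.sum_congr rfl hconst, Finset.sum_const, hcard, succ_nsmul, two_nsmul,
    add_self_res h.mod, zero_add]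
  exact (hu z hz1).2

open Classical in
/-- The rows of contributions form a system. -/
theorem sys :
    letI := cgrp P h.comm
    Sys (σ : P ≃* P) (fun χ : B => aa M P c (χ : IrrCharacter G)) := by
  letI := cgrp P h.comm
  have hD : Nat.card P = Fintype.card P := Nat.card_eq_fintype_card
  refine ⟨h.act, fun χ v => h.aa_inv χ v, fun χ v hv => h.aa_real χ hv,
    fun χ v hv => h.ab.dsec_ne_zero v.2 (fun h' => hv (Subtype.ext h')) χ.2,
    fun v hv => ?_, fun χ => by rw [← hD]; convert h.bound χ.2 using 4, fun η hη hinv h1 χ ψ => ?_,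
    fun η hη hinv h1 χ => ?_⟩
  · have h2 := h.ab.dsec_orth v.2 (fun h' => hv (Subtype.ext h')) v.2
      (fun h' => hv (Subtype.ext h'))
    rw [if_pos ⟨1, (pairStab P c).one_mem, by group⟩] at h2
    rw [← Finset.sum_subtype (bset B) (fun χ => mem_bset)
      (fun χ : IrrCharacter G => aa M P c χ v * conj (aa M P c χ v)), ← hD, h.card_pos_ab,
      Nat.cast_pow]
    exact h2
  · obtain ⟨z, hz⟩ := classInner_genChar_int (starW_genChar h.mod h.max (h.stable (f := η) hinv)
      (by simpa [sext_coe] using hη) (χ : IrrCharacter G))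
      (isGenChar_of_char (isCharacter_of_irr (ψ : IrrCharacter G).2))
    exact ⟨z, by rw [co, ← hD, ← h.inner_irr χ.2 ψ hinv h1, hz]⟩
  · obtain ⟨cf, -, hcf, hnorm⟩ := classInner_self_eq_sum_sq (starW_genChar h.mod h.max
      (h.stable (f := η) hinv) (by simpa [sext_coe] using hη) (χ : IrrCharacter G))
    rw [h.inner_self χ.2 hinv h1] at hnorm
    rw [co, ← hD, hnorm, Int.cast_sum, ← Finset.sum_subset (Finset.subset_univ (bset B))]
    · refine (Finset.sum_subtype (bset B) (fun ψ => mem_bset) (fun ψ : IrrCharacter G =>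
        co (fun χ : IrrCharacter G => aa M P c χ) η χ ψ *
          conj (co (fun χ : IrrCharacter G => aa M P c χ) η χ ψ))).symm.trans ?_
      refine Finset.sum_congr rfl fun ψ _ => ?_
      have e : co (fun χ : IrrCharacter G => aa M P c χ) η χ ψ = (cf ψ : ℂ) := by
        rw [co, ← hD, ← h.inner_irr χ.2 ψ hinv h1, hcf]
      rw [e, map_intCast]
      push_cast
      ring
    · intro ψ _ hψ
      have h0 : (cf ψ : ℂ) = 0 := by
        rw [← hcf, h.inner_irr χ.2 ψ hinv h1, Finset.sum_eq_zero fun v _ => ?_, mul_zero]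
        rw [show aa M P c ψ v = 0 from h.ab.dsec_off v.2 fun h' => hψ (mem_bset.2 h'), map_zero,
          mul_zero, mul_zero]
      have : cf ψ = 0 := by exact_mod_cast h0
      simp [this]

/-- The number of characters. -/
theorem count_chars (h3 : ¬ 3 ∣ Nat.card P) : 3 * Nat.card B = Nat.card P + 8 := by
  classical
  letI := cgrp P h.comm
  have hS := h.sys
  have hD : Nat.card P = Fintype.card P := Nat.card_eq_fintype_card
  have hh : ∀ χ : B, dv 2 ((χ : IrrCharacter G) : G → ℂ) = minDv 2 B := fun χ => by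
    refine h.height_zero χ.2 ?_
    refine lt_of_eq_of_lt (Eq.trans ?_ (hS.sum_top_eq χ)) ?_
    · exact Finset.sum_congr (by ext; simp) fun _ _ => rfl
    rw [← hD]
    have h1 : (hS.s χ : ℝ) ≤ 3 := by exact_mod_cast hS.s_le χ
    have h2 : (0 : ℝ) < Nat.card P := Nat.cast_pos.2 Nat.card_pos
    nlinarith
  rw [Nat.card_eq_fintype_card (α := B), hD]
  refine hS.count (fun χ Q hQ => h.odd_sum χ.2 (hh χ) ((Finset.sum_congr (by ext; simp) fun _ _ => rfl).trans hQ)) (hD ▸ h.even) (hD ▸ h3)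
    fun χ hχ v hv => h.one_of_least χ.2 ?_ hv
  refine (congrArg (4 * ·) (Eq.trans ?_ (hS.sum_top_eq χ))).trans ?_
  · exact Finset.sum_congr (by ext; simp) fun _ _ => rfl
  rw [hχ, ← hD]
  push_cast
  ring

/-- The number of Brauer characters. -/
theorem count_rank : 3 * Nat.card B + 1 = 3 * blockRank 2 B + Nat.card P := by
  classical
  haveI : Fact (Nat.Prime 2) := ⟨Nat.prime_two⟩
  have h1 := sum_sRk h.mod h.max h.comm
  have htop : Subgroup.centralizer ((Subgroup.zpowers (1 : G) : Subgroup G) : Set G) = ⊤ :=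
    eq_top_iff.2 fun g _ => (isCentr_zpowers (1 : G) g).2 (Commute.one_right g)
  have hrk : ∀ v : P, sRk 2 M P c (v : G) = if v = 1 then Nat.card (pairStab P c) * blockRank 2 B
      else Nat.card (Subgroup.centralizer (P : Set G)) := by
    intro v
    rw [sRk]
    split_ifs with hv
    · subst hv
      rw [Subgroup.coe_one, subRk_central h.mod h.max (Subgroup.zpowers_le.2 P.one_mem) htop,
        inf_eq_left.2 (htop.symm ▸ le_top)]
    · have hv' : (v : G) ≠ 1 := fun h' => hv (Subtype.ext h')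
      rw [h.stab_inf v.2 hv', show subRk 2 M P c (Subgroup.zpowers (v : G)) =
        blockRank 2 (bEl 2 M P c (v : G)).2 from rfl, h.rank_bEl v.2 hv', mul_one]
  rw [Finset.sum_congr rfl fun v _ => hrk v, ← Finset.add_sum_erase _ _ (Finset.mem_univ (1 : P)),
    if_pos rfl, Finset.sum_congr rfl fun v hv => if_neg (Finset.mem_erase.1 hv).1,
    Finset.sum_const, Finset.card_erase_of_mem (Finset.mem_univ _), Finset.card_univ,
    smul_eq_mul, h.index] at h1
  rw [Nat.card_eq_fintype_card (α := P)]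
  have hP := Fintype.card_pos (α := P)
  obtain ⟨n, hn⟩ : ∃ n, Fintype.card P = n + 1 := ⟨Fintype.card P - 1, by omega⟩
  rw [hn, Nat.add_sub_cancel] at h1
  rw [hn]
  have hC : 0 < Nat.card (Subgroup.centralizer (P : Set G)) := Nat.card_pos
  have : Nat.card (Subgroup.centralizer (P : Set G)) * (3 * Nat.card B) =
      Nat.card (Subgroup.centralizer (P : Set G)) * (3 * blockRank 2 B + n) := by
    calc Nat.card (Subgroup.centralizer (P : Set G)) * (3 * Nat.card B)
        = 3 * Nat.card (Subgroup.centralizer (P : Set G)) * Nat.card B := by ring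
      _ = _ := h1
      _ = _ := by ring
  have := Nat.eq_of_mul_eq_mul_left hC this
  omega

end RT

/-- The invariants of a two-block with homocyclic defect group of rank two. -/
theorem homocyclic_invariants (hM : IsPModular 2 M) (hB : IsPBlock M B)
    (hD : IsDefectGroup 2 M B P) {m : ℕ} (hm : 1 ≤ m)
    (e : P ≃* Multiplicative (ZMod (2 ^ m) × ZMod (2 ^ m))) :
    (blockRank 2 B = 1 ∧ Nat.card B = 4 ^ m) ∨
      (blockRank 2 B = 3 ∧ 3 * Nat.card B = 4 ^ m + 8) := by
  obtain ⟨c, hmax⟩ := exists_maximal_at hM hB hD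
  obtain ⟨hab, hcard, htriv | ⟨σ, h⟩⟩ := exists_RT hM hmax hm e
  · left
    rw [← hcard]
    exact rank_one_of_abelian_triv hM hmax hab htriv
  · right
    haveI : Fintype P := Fintype.ofFinite _
    have h3 : ¬ 3 ∣ Nat.card P := fun h3 => by
      rw [hcard] at h3
      exact absurd (Nat.Prime.dvd_of_dvd_pow Nat.prime_three h3) (by norm_num)
    have hk := h.count_chars h3
    have hl := h.count_rank
    rw [hcard] at hk hl
    omega

end CfsgLib.Blocks.RankTwoFree
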