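import Cfsg.Agent.Lib.Blocks.RankTwoFree.Lattice
import Cfsg.Agent.Lib.Blocks.AbData
import Cfsg.Agent.Lib.Blocks.AbelianRankOne
import Cfsg.Agent.Lib.Blocks.Homocyclic

/-!
# Blocks with defect group `C_{2^m} × C_{2^m}` and inertial index three: the local data
-/

namespace CfsgLib.Blocks.RankTwoFree

open Cfsg CfsgLib.CharTheory
open scoped ComplexConjugate

set_option linter.unusedVariables false
set_option linter.unusedSimpArgs false
set_option linter.style.haveILetI false
set_option linter.unusedSectionVars false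

universe u

/-- The commutative group structure of an abelian subgroup. -/
abbrev cgrp {G : Type u} [Group G] (P : Subgroup G) (h : ∀ x ∈ P, ∀ y ∈ P, x * y = y * x) :
    CommGroup P :=
  { (inferInstance : Group P) with mul_comm := fun a b => Subtype.ext (h _ a.2 _ b.2) }

/-- The squares of `C_{2^m} × C_{2^m}` have index four. -/
theorem card_squares {A : Type*} [CommGroup A] [Fintype A] {m : ℕ} (hm : 1 ≤ m)
    (e : A ≃* Multiplicative (ZMod (2 ^ m) × ZMod (2 ^ m))) :
    4 * Nat.card {u : A // IsSquare u} = Fintype.card A ∧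
      Nat.card {u : A // u * u = 1} = 4 := by
  classical
  haveI : NeZero (2 ^ m) := ⟨by positivity⟩
  set a : ZMod (2 ^ m) := ((2 ^ (m - 1) : ℕ) : ZMod (2 ^ m)) with ha
  have ha0 : a ≠ 0 := by
    rw [ha, Ne, ZMod.natCast_eq_zero_iff]
    intro h
    have h1 := Nat.le_of_dvd (by positivity) h
    exact absurd h1 (not_le.2 (Nat.pow_lt_pow_right (by norm_num) (by omega)))
  have hker : Nat.card {u : A // u * u = 1} = 4 := by
    have e1 : {u : A // u * u = 1} ≃ {w : ZMod (2 ^ m) × ZMod (2 ^ m) // w + w = 0} :=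
      (e.toEquiv.trans Multiplicative.toAdd).subtypeEquiv fun u => by
        show u * u = 1 ↔ Multiplicative.toAdd (e u) + Multiplicative.toAdd (e u) = 0
        rw [← toAdd_mul, ← map_mul, toAdd_eq_zero, EmbeddingLike.map_eq_one_iff]
    rw [Nat.card_congr e1, Nat.card_eq_fintype_card, Fintype.card_subtype]
    have hset : (Finset.univ.filter fun w : ZMod (2 ^ m) × ZMod (2 ^ m) => w + w = 0) =
        ({0, a} : Finset (ZMod (2 ^ m))) ×ˢ ({0, a} : Finset (ZMod (2 ^ m))) := by
      ext ⟨x, y⟩
      simp [Homocyclic.two_mul_eq_zero_iff hm, ← ha, Prod.mk_eq_zero]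
    rw [hset, Finset.card_product]
    simp [Ne.symm ha0]
  refine ⟨?_, hker⟩
  set f : A →* A := powMonoidHom 2
  have h1 : Nat.card f.ker = 4 := by
    rw [← hker]
    exact Nat.card_congr (Equiv.subtypeEquivRight fun u => by
      simp [f, MonoidHom.mem_ker, pow_two])
  have h2 : Nat.card f.range = Nat.card {u : A // IsSquare u} :=
    Nat.card_congr (Equiv.subtypeEquivRight fun u => by
      simp [f, MonoidHom.mem_range, isSquare_iff_exists_sq, eq_comm])
  rw [← h2, ← h1, ← Subgroup.index_ker, Subgroup.card_mul_index, Nat.card_eq_fintype_card]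

theorem fin3_fix' : ∀ π : Equiv.Perm (Fin 3), π * π * π = 1 → ∀ i, π i = i → π = 1 := by decide

variable {M : Ideal AlgInt} {G : Type u} [Group G] [Fintype G]

/-- The data: `σ` generates an automiser of order three acting freely. -/
structure RT (M : Ideal AlgInt) (B : Set (IrrCharacter G)) (P : Subgroup G)
    (c : Set (IrrCharacter (Subgroup.centralizer (P : Set G)))) (σ : MulAut P) : Prop where
  mod : IsPModular 2 M
  max : IsMaximalBrauerPair 2 M B P c
  comm : ∀ x ∈ P, ∀ y ∈ P, x * y = y * x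
  mem : σ ∈ autInducedBy (pairStab P c) P
  cover : ∀ β ∈ autInducedBy (pairStab P c) P, β = 1 ∨ β = σ ∨ β = σ * σ
  cube : ∀ v : P, σ (σ (σ v)) = v
  fpf : ∀ v : P, σ v = v → v = 1
  four : 4 * Nat.card {v : P // IsSquare v} = Nat.card P
  invol : Nat.card {v : P // v * v = 1} = 4
  free : ∀ s ∈ pairStab P c, ∀ v ∈ P, v ≠ 1 → s * v * s⁻¹ = v →
    s ∈ Subgroup.centralizer (P : Set G)
  index : Nat.card (pairStab P c) = 3 * Nat.card (Subgroup.centralizer (P : Set G))
  even : Even (Nat.card P)

/-- Either the inertial quotient is trivial or the data exists. -/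
theorem exists_RT {B : Set (IrrCharacter G)} {P : Subgroup G}
    {c : Set (IrrCharacter (Subgroup.centralizer (P : Set G)))} (hM : IsPModular 2 M)
    (hmax : IsMaximalBrauerPair 2 M B P c) {m : ℕ} (hm : 1 ≤ m)
    (e : P ≃* Multiplicative (ZMod (2 ^ m) × ZMod (2 ^ m))) :
    (∀ x ∈ P, ∀ y ∈ P, x * y = y * x) ∧ Nat.card P = 4 ^ m ∧
      (pairStab P c ≤ Subgroup.centralizer (P : Set G) ∨ ∃ σ : MulAut P, RT M B P c σ) := by
  classical
  haveI : NeZero (2 ^ m) := ⟨by positivity⟩
  have hab : ∀ x ∈ P, ∀ y ∈ P, x * y = y * x := fun a ha b hb =>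
    congrArg Subtype.val (e.injective (by rw [map_mul, map_mul, mul_comm]) :
      (⟨a, ha⟩ * ⟨b, hb⟩ : P) = ⟨b, hb⟩ * ⟨a, ha⟩)
  have hcard : Nat.card P = 4 ^ m := by
    rw [Nat.card_congr e.toEquiv, Nat.card_congr (Multiplicative.toAdd), Nat.card_prod,
      Nat.card_zmod, ← Nat.mul_pow]
  refine ⟨hab, hcard, ?_⟩
  letI := cgrp P hab
  haveI : Fintype P := Fintype.ofFinite _
  obtain ⟨hfour, hinv⟩ := card_squares hm e
  haveI : Fact (Nat.Prime 2) := ⟨Nat.prime_two⟩
  set T := pairStab P c with hT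
  set A := autInducedBy T P with hA
  have hCT : (Subgroup.centralizer (P : Set G)) ≤ T := by rw [hT]; exact cent_le_pairStab P c
  have hTN : T ≤ Subgroup.normalizer (P : Set G) := fun t ht => ((mem_pairStab t).1 ht).1
  have hodd : Odd (Nat.card A) := by
    rw [← Nat.not_even_iff_odd, even_iff_two_dvd]
    exact inertial_coprime hM hmax hab
  -- an automiser element fixing all involutions is trivial
  have hker : ∀ β ∈ A, (∀ z : P, z * z = 1 → β z = z) → β = 1 := by
    intro β hβ hfix
    obtain ⟨g, hgT, hgN, hg⟩ := mem_autInducedBy_iff.1 hβ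
    have hpow : ∀ (n : ℕ) (x : P), (((β ^ n) x : P) : G) = g ^ n * (x : G) * (g ^ n)⁻¹ := by
      intro n
      induction n with
      | zero => intro x; simp
      | succ n ih =>
        intro x
        rw [pow_succ' β, MulAut.mul_apply, hg, ih, pow_succ' g]
        group
    have hone : β ^ Nat.card A = 1 := by
      have := pow_card_eq_one' (x := (⟨β, hβ⟩ : A))
      exact congrArg Subtype.val this
    have hcent : g ∈ (Subgroup.centralizer (P : Set G)) := Homocyclic.centralizes_of_fix_involutions hmax.1.1.1 hab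
      (fun a ha => (Subgroup.mem_normalizer_iff.1 hgN a).1 ha) hodd
      (Subgroup.mem_centralizer_iff.2 fun a ha => by
        have h1 := hpow (Nat.card A) ⟨a, ha⟩
        rw [hone] at h1
        exact eq_mul_inv_iff_mul_eq.1 h1)
      (fun d hd hd2 => by
        have h1 := congrArg Subtype.val (hfix ⟨d, hd⟩ (Subtype.ext hd2))
        rw [hg] at h1
        exact h1)
    refine MulEquiv.ext fun x => Subtype.ext ?_
    rw [hg, ← Subgroup.mem_centralizer_iff.1 hcent (x : G) x.2, mul_inv_cancel_right]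
    rfl
  let Z := {z : P // z * z = 1 ∧ z ≠ 1}
  have hZ : Nat.card Z = 3 := by
    rw [Nat.card_eq_fintype_card, Fintype.card_subtype]
    have h4 := hinv
    rw [Nat.card_eq_fintype_card, Fintype.card_subtype] at h4
    rw [show (Finset.univ.filter fun z : P => z * z = 1 ∧ z ≠ 1) =
        (Finset.univ.filter fun z : P => z * z = 1).erase 1 by ext z; simp [and_comm],
      Finset.card_erase_of_mem (by simp), h4]
  let act : A →* Equiv.Perm Z :=
    { toFun := fun β => (β : MulAut P).toEquiv.subtypeEquiv fun z => by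
        show z * z = 1 ∧ z ≠ 1 ↔ (β : MulAut P) z * (β : MulAut P) z = 1 ∧ (β : MulAut P) z ≠ 1
        rw [← map_mul, EmbeddingLike.map_eq_one_iff, Ne, Ne, EmbeddingLike.map_eq_one_iff]
      map_one' := Equiv.ext fun z => Subtype.ext rfl
      map_mul' := fun β γ => Equiv.ext fun z => Subtype.ext rfl }
  have hinj : Function.Injective act := by
    refine (injective_iff_map_eq_one act).2 fun β hβ => Subtype.ext (hker β β.2 fun z hz => ?_)
    by_cases h1 : z = 1
    · rw [h1, map_one]
    · exact congrArg Subtype.val (Equiv.Perm.ext_iff.1 hβ (⟨z, hz, h1⟩ : Z))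
  have hdvd : Nat.card A ∣ 6 := by
    refine (Subgroup.card_dvd_of_injective act hinj).trans ?_
    rw [Nat.card_eq_fintype_card, Fintype.card_perm, ← Nat.card_eq_fintype_card, hZ]
    rfl
  have hA13 : Nat.card A = 1 ∨ Nat.card A = 3 := by
    have h4 := Nat.le_of_dvd (by norm_num) hdvd
    obtain ⟨j, hj⟩ := hodd
    rw [hj] at h4 hdvd ⊢
    have : j ≤ 2 := by omega
    interval_cases j <;> simp_all
  have hidx : Nat.card T = Nat.card A * Nat.card (Subgroup.centralizer (P : Set G)) := by
    have h1 := Subgroup.card_mul_index ((Subgroup.centralizer (P : Set G)).subgroupOf T)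
    have e : Nat.card ((Subgroup.centralizer (P : Set G)).subgroupOf T) = Nat.card (Subgroup.centralizer (P : Set G)) :=
      Nat.card_congr (Subgroup.subgroupOfEquivOfLe hCT).toEquiv
    rw [card_autInducedBy_eq_index hTN, e] at h1
    rw [← h1, mul_comm]
  rcases hA13 with h1 | h3
  · left
    refine fun t ht => Subgroup.mem_centralizer_iff.2 fun a ha => ?_
    obtain ⟨β, hβ⟩ : ∃ β : MulAut P, β = autHom P (le_refl _) ⟨t, hTN ht⟩ := ⟨_, rfl⟩
    have hβA : β ∈ A := mem_autInducedBy_iff.2 ⟨t, ht, hTN ht, fun x => by rw [hβ]; rfl⟩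
    haveI : Subsingleton A := (Nat.card_eq_one_iff_unique.1 h1).1
    have h2 : β = 1 := congrArg Subtype.val (Subsingleton.elim (⟨β, hβA⟩ : A) 1)
    rw [hβ] at h2
    have h3 : t * a * t⁻¹ = a := congrArg Subtype.val (DFunLike.congr_fun h2 (⟨a, ha⟩ : P))
    exact (mul_inv_eq_iff_eq_mul.1 h3).symm
  · right
    haveI : Fact (Nat.Prime 3) := ⟨Nat.prime_three⟩
    obtain ⟨α, hα⟩ : ∃ α : A, α ≠ 1 := by
      by_contra hcon
      push Not at hcon
      have : Subsingleton A := ⟨fun x y => (hcon x).trans (hcon y).symm⟩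
      rw [Nat.card_of_subsingleton (1 : A)] at h3
      omega
    have hα3 : α ^ 3 = 1 := h3 ▸ pow_card_eq_one'
    have hfix : ∀ β : A, ∀ z : Z, act β z = z → β = 1 := by
      intro β z hz
      haveI : Fintype Z := Fintype.ofFinite Z
      let ε := Fintype.equivFinOfCardEq (α := Z) (n := 3) (by rw [← Nat.card_eq_fintype_card, hZ])
      have hcube : ε.permCongrHom (act β) * ε.permCongrHom (act β) * ε.permCongrHom (act β) = 1 := by
        rw [← map_mul, ← map_mul, ← map_mul, ← map_mul, show β * β * β = β ^ 3 by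
          rw [pow_three, mul_assoc], show β ^ 3 = 1 from h3 ▸ pow_card_eq_one', map_one, map_one]
      have h1 := fin3_fix' _ hcube (ε z) (by
        show ε.permCongr (act β) (ε z) = ε z
        rw [Equiv.permCongr_apply, ε.symm_apply_apply, hz])
      rw [map_eq_one_iff _ (MulEquiv.injective _)] at h1
      exact hinj (h1.trans act.map_one.symm)
    have hfpf : ∀ β : A, ∀ v : P, v ≠ 1 → (β : MulAut P) v = v → β = 1 := by
      intro β v hv hβv
      obtain ⟨k, hk⟩ := IsPGroup.iff_orderOf.1 hmax.1.1.1 v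
      have hk0 : k ≠ 0 := by rintro rfl; exact hv (orderOf_eq_one_iff.1 (by simpa using hk))
      set z := v ^ 2 ^ (k - 1) with hz
      have hz2 : z * z = 1 := by
        rw [hz, ← pow_add, ← mul_two, ← pow_succ, Nat.sub_add_cancel (by omega), ← hk,
          pow_orderOf_eq_one]
      have hz1 : z ≠ 1 := by
        refine pow_ne_one_of_lt_orderOf (by positivity) ?_
        rw [hk]
        exact Nat.pow_lt_pow_right (by norm_num) (by omega)
      refine hfix β ⟨z, hz2, hz1⟩ (Subtype.ext ?_)
      show (β : MulAut P) z = z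
      rw [hz, map_pow, hβv]
    refine ⟨α, ⟨hM, hmax, hab, α.2, fun β hβ => ?_, fun v => ?_, fun v hv => ?_,
      by rwa [Nat.card_eq_fintype_card (α := P)], hinv, fun s hs v hv hv1 hsv => ?_,
      by rw [hidx, h3], by rw [hcard]; exact (by norm_num : Even 4).pow_of_ne_zero (by omega)⟩⟩
    · have hmem : (⟨β, hβ⟩ : A) ∈ Subgroup.zpowers α := mem_zpowers_of_prime_card h3 hα
      obtain ⟨i, hi⟩ := Subgroup.mem_zpowers_iff.1 hmem
      have hord : orderOf α = 3 := orderOf_eq_prime hα3 hα
      rw [← zpow_mod_orderOf, hord] at hi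
      have : i % (3 : ℕ) = 0 ∨ i % (3 : ℕ) = 1 ∨ i % (3 : ℕ) = 2 := by omega
      rcases this with h | h | h <;> rw [h] at hi
      · left; exact (congrArg Subtype.val hi).symm.trans (by simp)
      · right; left; exact (congrArg Subtype.val hi).symm.trans (by simp)
      · right; right
        exact (congrArg Subtype.val hi).symm.trans (by
          rw [show ((2 : ℤ)) = ((2 : ℕ) : ℤ) from rfl, zpow_natCast, SubmonoidClass.coe_pow, pow_two])
    · have h1 := congrArg (fun β : A => (β : MulAut P) v) hα3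
      simp only [pow_three] at h1
      exact h1
    · by_contra hv1
      exact hα (hfpf α v hv1 hv)
    · obtain ⟨β, hβ⟩ : ∃ β : MulAut P, β = autHom P (le_refl _) ⟨s, hTN hs⟩ := ⟨_, rfl⟩
      have hβA : β ∈ A := mem_autInducedBy_iff.2 ⟨s, hs, hTN hs, fun x => by rw [hβ]; rfl⟩
      have h1 := hfpf ⟨β, hβA⟩ ⟨v, hv⟩ (fun h => hv1 (congrArg Subtype.val h))
        (Subtype.ext (by show ((β ⟨v, hv⟩ : P) : G) = v; rw [hβ]; exact hsv))
      have h2 : β = 1 := congrArg Subtype.val h1
      rw [hβ] at h2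
      refine Subgroup.mem_centralizer_iff.2 fun a ha => ?_
      have h3 : s * a * s⁻¹ = a := congrArg Subtype.val (DFunLike.congr_fun h2 (⟨a, ha⟩ : P))
      exact (mul_inv_eq_iff_eq_mul.1 h3).symm

namespace RT

variable {B : Set (IrrCharacter G)} {P : Subgroup G}
  {c : Set (IrrCharacter (Subgroup.centralizer (P : Set G)))} {σ : MulAut P}
  (h : RT M B P c σ)

include h

theorem act [Fintype P] :
    letI := cgrp P h.comm
    Act (σ : P ≃* P) :=
  letI := cgrp P h.comm
  ⟨h.cube, h.fpf, by rw [← Nat.card_eq_fintype_card (α := P)]; exact h.four⟩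

theorem card_pos_ab : Nat.card P = 2 ^ blockDefect 2 B :=
  card_defectGroup h.mod h.max.1.2.1 (maximal_isDefectGroup h.mod h.max)

/-- The structure `AbData`. -/
theorem ab : AbData 2 M B P c (blockDefect 2 B) := by
  refine ⟨h.mod, h.max, h.comm, h.card_pos_ab, fun v hv hv1 => ?_⟩
  have hQP : Subgroup.zpowers v ≤ P := Subgroup.zpowers_le.2 hv
  haveI := Fintype.ofFinite (Subgroup.centralizer ((Subgroup.zpowers v : Subgroup G) : Set G))
  obtain ⟨f, hstep, hind, hdef, a, ha, hup, hmax'⟩ := exists_local_abelian h.mod h.max h.comm hQP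
  obtain ⟨hcard', hab', hst, hcent⟩ := local_abelian_props hup h.comm
  have htriv : pairStab a.1 a.2 ≤ Subgroup.centralizer (a.1 : Set _) := fun y hy =>
    (hcent y).1 (h.free _ (hst y hy) v hv hv1 (mul_inv_eq_iff_eq_mul.2
      ((isCentr_zpowers v (y : G)).1 y.2).eq))
  obtain ⟨hl, -⟩ := rank_one_of_abelian_triv h.mod hmax' hab' htriv
  obtain ⟨f', hf', -⟩ := existsUnique_subpair h.mod h.max.1.1.1 h.max.1.1.2 _ hQP
  obtain ⟨h1, h2⟩ := Classical.epsilon_spec
    (p := fun f => IsPBlock M f ∧ SubpairLE 2 M (Subgroup.zpowers v) f P c) ⟨f', hf'⟩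
  have e : (belowIdx 2 M P c (Subgroup.zpowers v)).2 = f :=
    subpair_unique h.mod h.max.1.1.1 h.max.1.1.2 h1 hmax'.1.2.1 h2
      (Relation.ReflTransGen.single hstep)
  rw [e]
  exact hl

end RT

end CfsgLib.Blocks.RankTwoFree
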